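import Cfsg.Agent.Forms4.OrthogonalOrders
import Cfsg.Agent.Spinor.StdForms
import Mathlib

/-!
# Embedding orthogonal sums of equal standard blocks into standard forms

The identities `z₁² + a z₁ z₂ + c z₂² = z₁ (z₁ + a z₂) + z₂ (c z₂)` and the splitting of two equal anisotropic planes
into two hyperbolic planes reduce every embedding to placing products of coordinates.
-/

set_option autoImplicit false

namespace CfsgLib.RootClasses

variable {F : Type*} [Field F]

/-- The binary form. -/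
def binVal (a c : F) (z : Fin 2 → F) : F := z 0 ^ 2 + a * z 0 * z 1 + c * z 1 ^ 2

/-- An anisotropic binary form. -/
def AnisoBin (a c : F) : Prop := ∀ z₁ z₂ : F, z₁ ^ 2 + a * z₁ * z₂ + c * z₂ ^ 2 = 0 → z₁ = 0 ∧ z₂ = 0

theorem exists_anisoBin [Finite F] : ∃ a c : F, AnisoBin a c := by
  obtain ⟨c, hc⟩ : ∃ c : F, ∀ x : F, x ^ 2 + x ≠ c := by
    by_contra h
    push Not at h
    have hinj : Function.Injective fun x : F => x ^ 2 + x := Finite.injective_iff_surjective.2 h
    have := @hinj 0 (-1) (by ring)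
    simp at this
  refine ⟨1, -c, fun z₁ z₂ h => ?_⟩
  by_cases h2 : z₂ = 0
  · subst h2
    exact ⟨pow_eq_zero_iff two_ne_zero |>.1 (by linear_combination h), rfl⟩
  · exact absurd (by field_simp; linear_combination h) (hc (z₁ / z₂))

theorem AnisoBin.disc_ne_zero [Finite F] {a c : F} (h : AnisoBin a c) : a ^ 2 - 4 * c ≠ 0 := by
  cases nonempty_fintype F
  intro h0
  by_cases h2 : (2 : F) = 0
  · have ha : a = 0 := (pow_eq_zero_iff two_ne_zero).1 (by linear_combination h0 + (2 * c) * h2)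
    have h2' : ringChar F = 2 := by
      by_contra hne
      exact Ring.two_ne_zero hne h2
    obtain ⟨x, hx⟩ := FiniteField.isSquare_of_char_two h2' (-c)
    exact one_ne_zero (h x 1 (by rw [ha]; linear_combination -hx)).2
  · exact StdForms.disc_ne_zero_of_anisotropic h2 h h0

/-- An anisotropic binary form takes every value. -/
theorem AnisoBin.exists_value [Finite F] {a c : F} (h : AnisoBin a c) (s : F) :
    ∃ z : Fin 2 → F, binVal a c z = s := by
  cases nonempty_fintype F
  by_cases h2 : ringChar F = 2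
  · obtain ⟨x, hx⟩ := FiniteField.isSquare_of_char_two h2 s
    exact ⟨![x, 0], by simp [binVal]; linear_combination -hx⟩
  · have h2' : (2 : F) ≠ 0 := Ring.two_ne_zero h2
    have h4 : (4 : F) ≠ 0 := by
      rw [show (4 : F) = 2 * 2 by norm_num]; exact mul_ne_zero h2' h2'
    have hd : c - a ^ 2 / 4 ≠ 0 := fun h0 => h.disc_ne_zero (by
      field_simp at h0; linear_combination -h0)
    obtain ⟨x, y, hxy⟩ := FiniteField.exists_root_sum_quadratic
      (f := (Polynomial.X ^ 2 - Polynomial.C s : Polynomial F))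
      (g := Polynomial.C (c - a ^ 2 / 4) * Polynomial.X ^ 2)
      (Polynomial.degree_X_pow_sub_C (by norm_num) _)
      (Polynomial.degree_C_mul_X_pow 2 hd) (FiniteField.odd_card_of_char_ne_two h2)
    simp only [Polynomial.eval_sub, Polynomial.eval_pow, Polynomial.eval_X, Polynomial.eval_C,
      Polynomial.eval_mul] at hxy
    refine ⟨![x - a / 2 * y, y], ?_⟩
    simp [binVal]
    rw [show (4 : F) = 2 * 2 by norm_num] at hxy
    field_simp at hxy ⊢
    linear_combination hxy

/-- The product of the quadratic algebra, in coordinates. -/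
def binMul (a c : F) (w z : Fin 2 → F) : Fin 2 → F :=
  ![w 0 * z 0 - c * w 1 * z 1, w 0 * z 1 + w 1 * z 0 + a * w 1 * z 1]

theorem binVal_binMul (a c : F) (w z : Fin 2 → F) :
    binVal a c (binMul a c w z) = binVal a c w * binVal a c z := by
  simp [binVal, binMul]
  ring

/-! ### Placing products of coordinates in standard forms -/

section place

variable {V : Type*} [AddCommGroup V] [Module F V] {I : Type} [Fintype I]

/-- Products of coordinates placed among the first hyperbolic pairs. -/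
theorem exists_place {m : ℕ} (X Y : V →ₗ[F] (I → F)) (h : Fintype.card I ≤ m) :
    ∃ X' Y' : V →ₗ[F] (Fin m → F), ∀ v, ∑ j, X' v j * Y' v j = ∑ i, X v i * Y v i := by
  classical
  obtain ⟨f⟩ := Function.Embedding.nonempty_of_card_le (α := I) (β := Fin m) (by simpa using h)
  refine ⟨(Function.ExtendByZero.linearMap F f).comp X, (Function.ExtendByZero.linearMap F f).comp Y,
    fun v => (Fintype.sum_of_injective f f.injective _ _ (fun j hj => ?_) fun i => ?_).symm⟩
  · show Function.extend f (X v) 0 j * Function.extend f (Y v) 0 j = 0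
    rw [Function.extend_apply' _ _ _ (fun ⟨i, hi⟩ => hj ⟨i, hi⟩)]
    simp
  · show _ = Function.extend f (X v) 0 (f i) * Function.extend f (Y v) 0 (f i)
    rw [f.injective.extend_apply, f.injective.extend_apply]

theorem exists_to_plus {m : ℕ} (X Y : V →ₗ[F] (I → F)) (h : Fintype.card I ≤ m) :
    ∃ E : V →ₗ[F] (Fin m ⊕ Fin m → F), ∀ v,
      Cfsg.quadFormPlus m F (E v) = ∑ i, X v i * Y v i := by
  obtain ⟨X', Y', h'⟩ := exists_place X Y h
  refine ⟨LinearMap.pi (Sum.elim (fun i => (LinearMap.proj i).comp X') fun i =>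
    (LinearMap.proj i).comp Y'), fun v => ?_⟩
  rw [← h']
  simp [Cfsg.quadFormPlus]

theorem exists_to_minus {m : ℕ} (a c : F) (X Y : V →ₗ[F] (I → F)) (Z : V →ₗ[F] (Fin 2 → F))
    (h : Fintype.card I ≤ m) :
    ∃ E : V →ₗ[F] ((Fin m ⊕ Fin m) ⊕ Fin 2 → F), ∀ v,
      Cfsg.quadFormMinus m F a c (E v) = (∑ i, X v i * Y v i) + binVal a c (Z v) := by
  obtain ⟨X', Y', h'⟩ := exists_place X Y h
  refine ⟨LinearMap.pi (Sum.elim (Sum.elim (fun i => (LinearMap.proj i).comp X') fun i =>
    (LinearMap.proj i).comp Y') fun i => (LinearMap.proj i).comp Z), fun v => ?_⟩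
  rw [← h']
  simp [Cfsg.quadFormMinus, binVal]

theorem exists_to_odd {m : ℕ} (X Y : V →ₗ[F] (I → F)) (Z : V →ₗ[F] F) (h : Fintype.card I ≤ m) :
    ∃ E : V →ₗ[F] (Unit ⊕ (Fin m ⊕ Fin m) → F), ∀ v,
      Cfsg.quadFormOdd m F (E v) = Z v ^ 2 + ∑ i, X v i * Y v i := by
  obtain ⟨X', Y', h'⟩ := exists_place X Y h
  refine ⟨LinearMap.pi (Sum.elim (fun _ => Z) (Sum.elim (fun i => (LinearMap.proj i).comp X') fun i =>
    (LinearMap.proj i).comp Y')), fun v => ?_⟩
  rw [← h']
  simp [Cfsg.quadFormOdd]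

/-- A binary form written with two hyperbolic pairs. -/
theorem exists_absorb_bin (a c : F) (X Y : V →ₗ[F] (I → F)) (Z : V →ₗ[F] (Fin 2 → F)) :
    ∃ X' Y' : V →ₗ[F] (I ⊕ Fin 2 → F), ∀ v,
      ∑ i, X' v i * Y' v i = (∑ i, X v i * Y v i) + binVal a c (Z v) := by
  refine ⟨LinearMap.pi (Sum.elim (fun i => (LinearMap.proj i).comp X) fun i =>
      (LinearMap.proj i).comp Z),
    LinearMap.pi (Sum.elim (fun i => (LinearMap.proj i).comp Y)
      ![(LinearMap.proj 0).comp Z + a • (LinearMap.proj 1).comp Z, c • (LinearMap.proj 1).comp Z]),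
    fun v => ?_⟩
  simp [Fintype.sum_sum_type, binVal, Fin.sum_univ_two]
  ring

/-- A binary form written with a square and one hyperbolic pair. -/
theorem exists_absorb_odd (h2 : (2 : F) ≠ 0) (a c : F) (X Y : V →ₗ[F] (I → F))
    (Z : V →ₗ[F] (Fin 2 → F)) :
    ∃ (X' Y' : V →ₗ[F] (I ⊕ Unit → F)) (Z' : V →ₗ[F] F), ∀ v,
      Z' v ^ 2 + ∑ i, X' v i * Y' v i = (∑ i, X v i * Y v i) + binVal a c (Z v) := by
  refine ⟨LinearMap.pi (Sum.elim (fun i => (LinearMap.proj i).comp X) fun _ =>
      (LinearMap.proj 1).comp Z),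
    LinearMap.pi (Sum.elim (fun i => (LinearMap.proj i).comp Y) fun _ =>
      (c - (a / 2) ^ 2) • (LinearMap.proj 1).comp Z),
    (LinearMap.proj 0).comp Z + (a / 2) • (LinearMap.proj 1).comp Z, fun v => ?_⟩
  simp [Fintype.sum_sum_type, binVal]
  field_simp
  ring

end place

/-! ### Sums of blocks -/

section blocks

variable {o : Type} [Fintype o]

/-- Orthogonal sums of hyperbolic blocks as products of coordinates. -/
theorem exists_plus_blocks (e : ℕ) :
    ∃ X Y : ((Fin e ⊕ Fin e) × o → F) →ₗ[F] (o × Fin e → F), ∀ v,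
      ∑ l, Cfsg.quadFormPlus e F (fun i => v (i, l)) = ∑ x, X v x * Y v x := by
  refine ⟨LinearMap.funLeft F F fun x => (Sum.inl x.2, x.1),
    LinearMap.funLeft F F fun x => (Sum.inr x.2, x.1), fun v => ?_⟩
  simp [Fintype.sum_prod_type, Cfsg.quadFormPlus, LinearMap.funLeft_apply]

/-- Two equal anisotropic planes as two products of linear forms. -/
theorem exists_pair_planes [Finite F] {a c : F} (h : AnisoBin a c) :
    ∃ X Y : (Fin 2 → F) × (Fin 2 → F) →ₗ[F] (Fin 2 → F), ∀ v,
      binVal a c v.1 + binVal a c v.2 = ∑ i, X v i * Y v i := by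
  obtain ⟨w, hw⟩ := h.exists_value (-1)
  let x0 : (Fin 2 → F) × (Fin 2 → F) →ₗ[F] F := (LinearMap.proj 0).comp (LinearMap.fst F _ _)
  let x1 : (Fin 2 → F) × (Fin 2 → F) →ₗ[F] F := (LinearMap.proj 1).comp (LinearMap.fst F _ _)
  let y0 : (Fin 2 → F) × (Fin 2 → F) →ₗ[F] F := (LinearMap.proj 0).comp (LinearMap.snd F _ _)
  let y1 : (Fin 2 → F) × (Fin 2 → F) →ₗ[F] F := (LinearMap.proj 1).comp (LinearMap.snd F _ _)
  let z0 := w 0 • x0 - (c * w 1) • x1
  let z1 := w 0 • x1 + w 1 • x0 + (a * w 1) • x1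
  let u0 := y0 - z0
  let u1 := y1 - z1
  refine ⟨LinearMap.pi ![u0, u1],
    LinearMap.pi ![(2 : F) • z0 + a • z1 + u0 + a • u1, a • z0 + (2 * c) • z1 + c • u1], fun v => ?_⟩
  have hm : binVal a c (binMul a c w v.1) = -binVal a c v.1 := by rw [binVal_binMul, hw, neg_one_mul]
  simp [binVal, binMul, Fin.sum_univ_two, x0, x1, y0, y1, z0, z1, u0, u1] at hm ⊢
  linear_combination hm

/-- Orthogonal sums of equal elliptic blocks as products of coordinates and at most one binary form. -/
theorem exists_minus_blocks [Finite F] {a c : F} (h : AnisoBin a c) (e : ℕ) :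
    ∃ (I : Type) (_ : Fintype I)
      (X Y : (((Fin e ⊕ Fin e) ⊕ Fin 2) × o → F) →ₗ[F] (I → F))
      (Z : (((Fin e ⊕ Fin e) ⊕ Fin 2) × o → F) →ₗ[F] (Fin 2 → F)),
      Fintype.card I = Fintype.card o * e + 2 * (Fintype.card o / 2) ∧
      (Even (Fintype.card o) → Z = 0) ∧
      ∀ v, ∑ l, Cfsg.quadFormMinus e F a c (fun i => v (i, l)) =
        (∑ x, X v x * Y v x) + binVal a c (Z v) := by
  classical
  set s := Fintype.card o % 2 with hs
  set k := Fintype.card o / 2 with hk
  let j : (Fin k ⊕ Fin k) ⊕ Fin s ≃ o :=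
    (Fintype.equivOfCardEq (by simp only [Fintype.card_sum, Fintype.card_fin]; omega))
  obtain ⟨X₂, Y₂, h₂⟩ := exists_pair_planes h
  let B : o → (((Fin e ⊕ Fin e) ⊕ Fin 2) × o → F) →ₗ[F] (Fin 2 → F) := fun l =>
    LinearMap.funLeft F F fun i => (Sum.inr i, l)
  let P : Fin k → (((Fin e ⊕ Fin e) ⊕ Fin 2) × o → F) →ₗ[F] (Fin 2 → F) × (Fin 2 → F) := fun l =>
    (B (j (.inl (.inl l)))).prod (B (j (.inl (.inr l))))
  refine ⟨o × Fin e ⊕ Fin k × Fin 2, inferInstance,
    LinearMap.pi (Sum.elim (fun x => LinearMap.proj (Sum.inl (Sum.inl x.2), x.1))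
      fun x => (LinearMap.proj x.2).comp (X₂.comp (P x.1))),
    LinearMap.pi (Sum.elim (fun x => LinearMap.proj (Sum.inl (Sum.inr x.2), x.1))
      fun x => (LinearMap.proj x.2).comp (Y₂.comp (P x.1))),
    ∑ l : Fin s, B (j (.inr l)), by simp [hk, Fintype.card_prod]; ring, fun he => ?_, fun v => ?_⟩
  · have : IsEmpty (Fin s) := by
      rw [hs, Nat.even_iff.1 he]
      infer_instance
    simp
  · have hsplit : ∀ l, Cfsg.quadFormMinus e F a c (fun i => v (i, l)) =
        (∑ i : Fin e, v (Sum.inl (Sum.inl i), l) * v (Sum.inl (Sum.inr i), l)) + binVal a c (B l v) := by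
      intro l
      simp [Cfsg.quadFormMinus, binVal, B]
    have hZ : binVal a c ((∑ l : Fin s, B (j (.inr l))) v) = ∑ l : Fin s, binVal a c (B (j (.inr l)) v) := by
      rcases Nat.mod_two_eq_zero_or_one (Fintype.card o) with h0 | h1
      · have : IsEmpty (Fin s) := by rw [hs, h0]; infer_instance
        simp [binVal]
      · have : Unique (Fin s) := by rw [hs, h1]; infer_instance
        simp
    rw [Finset.sum_congr rfl fun l _ => hsplit l, Finset.sum_add_distrib, ← j.sum_comp fun l => binVal a c (B l v),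
      hZ, Fintype.sum_sum_type, Fintype.sum_sum_type, Fintype.sum_sum_type, ← add_assoc]
    congr 1
    rw [← Finset.sum_add_distrib]
    congr 1
    · simp [Fintype.sum_prod_type]
    · rw [Fintype.sum_prod_type]
      refine Finset.sum_congr rfl fun l _ => ?_
      simpa [P] using h₂ (P l v)

end blocks

/-! ### Vectors of given value -/

theorem card_value_minus [Finite F] {a c : F} (h : AnisoBin a c) (k : ℕ) {s : F} (hs : s ≠ 0) :
    Nat.card {v : (Fin k ⊕ Fin k) ⊕ Fin 2 → F // Cfsg.quadFormMinus k F a c v = s} =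
      Nat.card {v : (Fin k ⊕ Fin k) ⊕ Fin 2 → F // Cfsg.quadFormMinus k F a c v = 1} := by
  obtain ⟨w, hw⟩ := h.exists_value s
  obtain ⟨w', hw'⟩ := h.exists_value s⁻¹
  let L : ((Fin k ⊕ Fin k) ⊕ Fin 2 → F) → F → (Fin 2 → F) → ((Fin k ⊕ Fin k) ⊕ Fin 2 → F) :=
    fun v t u => Sum.elim (Sum.elim (fun i => t * v (.inl (.inl i))) fun i => v (.inl (.inr i)))
      (binMul a c u fun i => v (.inr i))
  have hL : ∀ v t u, binVal a c u = t →
      Cfsg.quadFormMinus k F a c (L v t u) = t * Cfsg.quadFormMinus k F a c v := fun v t u hu => by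
    have := binVal_binMul a c u fun i => v (.inr i)
    simp only [binVal] at this hu
    rw [hu] at this
    simp only [Cfsg.quadFormMinus, L, Sum.elim_inl, Sum.elim_inr, mul_add, Finset.mul_sum]
    simp only [mul_assoc] at this ⊢
    rw [this]
    ring
  have hinj : ∀ t u, t ≠ 0 → binVal a c u = t → Function.Injective fun v => L v t u := by
    intro t u ht hu v v' hvv
    have h1 : ∀ x, L v t u x = L v' t u x := congrFun hvv
    funext x
    rcases x with (i | i) | i
    · exact mul_left_cancel₀ ht (h1 (.inl (.inl i)))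
    · exact h1 (.inl (.inr i))
    · have hz : binVal a c (binMul a c u fun i => v (.inr i) - v' (.inr i)) = 0 := by
        have e0 := h1 (.inr 0)
        have e1 := h1 (.inr 1)
        simp [L, binMul] at e0 e1
        have f0 : u 0 * (v (.inr 0) - v' (.inr 0)) - c * u 1 * (v (.inr 1) - v' (.inr 1)) = 0 := by
          linear_combination e0
        have f1 : u 0 * (v (.inr 1) - v' (.inr 1)) + u 1 * (v (.inr 0) - v' (.inr 0)) +
            a * u 1 * (v (.inr 1) - v' (.inr 1)) = 0 := by linear_combination e1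
        simp [binVal, binMul, f0, f1]
      rw [binVal_binMul, hu, mul_eq_zero, or_iff_right ht] at hz
      obtain ⟨g0, g1⟩ := h _ _ hz
      fin_cases i
      · exact sub_eq_zero.1 g0
      · exact sub_eq_zero.1 g1
  refine le_antisymm (Nat.card_le_card_of_injective (fun v => ⟨L v.1 s⁻¹ w', by
    rw [hL _ _ _ hw', v.2, inv_mul_cancel₀ hs]⟩) fun v v' e => Subtype.ext
      (hinj _ _ (inv_ne_zero hs) hw' (congrArg Subtype.val e))) ?_
  exact Nat.card_le_card_of_injective (fun v => ⟨L v.1 s w, by rw [hL _ _ _ hw, v.2, mul_one]⟩)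
    fun v v' e => Subtype.ext (hinj _ _ hs hw (congrArg Subtype.val e))

theorem card_value_plus (m : ℕ) {s : F} (hs : s ≠ 0) :
    Nat.card {v : Fin m ⊕ Fin m → F // Cfsg.quadFormPlus m F v = s} =
      Nat.card {v : Fin m ⊕ Fin m → F // Cfsg.quadFormPlus m F v = 1} := by
  let S : F → (Fin m ⊕ Fin m → F) → (Fin m ⊕ Fin m → F) := fun t v =>
    Sum.elim (fun i => t * v (.inl i)) fun i => v (.inr i)
  have hS : ∀ t v, Cfsg.quadFormPlus m F (S t v) = t * Cfsg.quadFormPlus m F v := fun t v => by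
    simp [Cfsg.quadFormPlus, S, Finset.mul_sum, mul_assoc]
  exact Nat.card_congr
    { toFun := fun v => ⟨S s⁻¹ v.1, by rw [hS, v.2, inv_mul_cancel₀ hs]⟩
      invFun := fun v => ⟨S s v.1, by rw [hS, v.2, mul_one]⟩
      left_inv := fun v => Subtype.ext (funext fun x => by rcases x with i | i <;> simp [S, hs])
      right_inv := fun v => Subtype.ext (funext fun x => by rcases x with i | i <;> simp [S, hs]) }

theorem card_eq_zero_add_value [Fintype F] {W : Type*} [Finite W] (f : W → F)
    (hf : ∀ s : F, s ≠ 0 → Nat.card {v // f v = s} = Nat.card {v // f v = 1}) :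
    Nat.card W = Nat.card {v // f v = 0} + (Fintype.card F - 1) * Nat.card {v // f v = 1} := by
  classical
  haveI := Fintype.ofFinite W
  rw [← Nat.card_congr (Equiv.sigmaFiberEquiv f), Nat.card_sigma, ← Finset.add_sum_erase _ _ (Finset.mem_univ 0),
    Finset.sum_congr rfl fun s hs => hf s (Finset.ne_of_mem_erase hs), Finset.sum_const,
    Finset.card_erase_of_mem (Finset.mem_univ 0), Finset.card_univ, smul_eq_mul]

/-- The number of vectors of value `1` in the hyperbolic space. -/
theorem card_one_plus [Fintype F] {q : ℕ} (hF : Fintype.card F = q) (k : ℕ) :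
    Nat.card {v : Fin (k + 1) ⊕ Fin (k + 1) → F // Cfsg.quadFormPlus (k + 1) F v = 1} =
      q ^ k * (q ^ (k + 1) - 1) := by
  have h := card_eq_zero_add_value (Cfsg.quadFormPlus (k + 1) F) (fun s hs => card_value_plus _ hs)
  rw [Nat.card_fun, Nat.card_eq_fintype_card, Nat.card_eq_fintype_card, Fintype.card_sum, Fintype.card_fin,
    Forms4.card_zero_quadFormPlus hF (k + 1) (by omega), hF, Nat.add_sub_cancel,
    show 2 * (k + 1) - 1 = k + (k + 1) by omega] at h
  obtain ⟨B, hB⟩ : ∃ B, q = B + 1 + 1 := ⟨q - 2, by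
    have := Fintype.one_lt_card (α := F); omega⟩
  obtain ⟨C, hC⟩ : ∃ C, q ^ k = C + 1 := ⟨q ^ k - 1, by
    have : 0 < q ^ k := Nat.pow_pos (by omega); omega⟩
  set N := Nat.card {v : Fin (k + 1) ⊕ Fin (k + 1) → F // Cfsg.quadFormPlus (k + 1) F v = 1}
  simp only [pow_add, pow_one, hC] at h ⊢
  simp only [hB, show B + 1 + 1 - 1 = B + 1 by omega] at h ⊢
  have h1 : (B + 1) * N + (C + 1) * (B + 1) = (C + 1) * ((C + 1) * (B + 1 + 1)) * (B + 1) := by
    have : (C + 1) ≤ (C + 1) * (B + 1 + 1) := Nat.le_mul_of_pos_right _ (by omega)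
    zify [show C + 1 ≤ (C + 1) * ((C + 1) * (B + 1 + 1)) + (C + 1) * (B + 1 + 1) by omega] at h ⊢
    linear_combination -h
  have h2 : 1 ≤ (C + 1) * (B + 1 + 1) := Nat.one_le_iff_ne_zero.2 (by positivity)
  refine Nat.eq_of_mul_eq_mul_left (show 0 < B + 1 by omega) ?_
  zify [h2] at h1 ⊢
  linear_combination h1

/-- The number of vectors of value `1` in the elliptic space. -/
theorem card_one_minus [Fintype F] {q : ℕ} (hF : Fintype.card F = q) (k : ℕ) {a c : F}
    (hac : AnisoBin a c) :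
    Nat.card {v : (Fin k ⊕ Fin k) ⊕ Fin 2 → F // Cfsg.quadFormMinus k F a c v = 1} =
      q ^ k * (q ^ (k + 1) + 1) := by
  have h := card_eq_zero_add_value (Cfsg.quadFormMinus k F a c) (fun s hs => card_value_minus hac _ hs)
  have hz := Forms4.card_zero_quadFormMinus hF (k + 1) (by omega) a c hac
  rw [Nat.add_sub_cancel, show 2 * (k + 1) - 1 = k + (k + 1) by omega] at hz
  rw [Nat.card_fun, Nat.card_eq_fintype_card, Nat.card_eq_fintype_card, Fintype.card_sum, Fintype.card_sum,
    Fintype.card_fin, Fintype.card_fin, hF, hz] at h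
  obtain ⟨B, hB⟩ : ∃ B, q = B + 1 + 1 := ⟨q - 2, by
    have := Fintype.one_lt_card (α := F); omega⟩
  set N := Nat.card {v : (Fin k ⊕ Fin k) ⊕ Fin 2 → F // Cfsg.quadFormMinus k F a c v = 1}
  simp only [pow_add, pow_one, show q ^ 2 = q * q by ring] at h ⊢
  refine Nat.eq_of_mul_eq_mul_left (show 0 < B + 1 by omega) ?_
  have h1 : q ^ k * q ≤ q ^ k * (q ^ k * q) + q ^ k := by
    have : q ^ k * q ≤ q ^ k * (q ^ k * q) := Nat.le_mul_of_pos_left _ (Nat.pow_pos (by omega))
    omega
  zify [h1, show 1 ≤ q by omega] at h ⊢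
  rw [show (q : ℤ) = B + 1 + 1 by rw [hB]; push_cast; ring] at h ⊢
  linear_combination -h

end CfsgLib.RootClasses
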