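import Cfsg.Agent.Forms4.UnitaryCenter
import Cfsg.Agent.InvNorm.Hermitian
import Mathlib

/-!
# The centre of the general unitary group

Main results: `scalar_mem_GU`, `exists_scalar_of_mem_center_GU`.
-/

set_option autoImplicit false

namespace CfsgLib.RootClasses

open Matrix

variable {F : Type*} [Field F] {n q : ℕ}

/-- Scalars of norm one are unitary. -/
theorem scalar_mem_GU {x : Fˣ} (hx : (x : F) ^ (q + 1) = 1) :
    Units.map (Matrix.scalar (Fin n) : F →+* Matrix (Fin n) (Fin n) F).toMonoidHom x ∈ Cfsg.GU n F q := by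
  intro u v
  show Cfsg.hermForm n F q (Matrix.scalar (Fin n) (x : F) *ᵥ u) (Matrix.scalar (Fin n) (x : F) *ᵥ v) = _
  simp only [Cfsg.hermForm, Matrix.scalar_apply, Matrix.mulVec_diagonal]
  refine Finset.sum_congr rfl fun i _ => ?_
  rw [mul_pow, show (x : F) * u i * ((x : F) ^ q * v i ^ q) = ((x : F) ^ (q + 1)) * (u i * v i ^ q) by ring,
    hx, one_mul]

/-- A central element of `GU_n` is a scalar of norm one. -/
theorem exists_scalar_of_mem_center_GU [Fintype F] (hF : Fintype.card F = q ^ 2) (hn : 2 ≤ n)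
    {A : ↥(Cfsg.GU n F q)} (hA : A ∈ Subgroup.center ↥(Cfsg.GU n F q)) :
    ∃ x : Fˣ, (x : F) ^ (q + 1) = 1 ∧
      Units.map (Matrix.scalar (Fin n) : F →+* Matrix (Fin n) (Fin n) F).toMonoidHom x = (A : GL (Fin n) F) := by
  classical
  obtain ⟨c, hc0, hcq, hc2⟩ := Forms4.exists_norm_one_sq_ne_one hF
  set M : Matrix (Fin n) (Fin n) F := (A : GL (Fin n) F).1 with hM
  have hcomm : ∀ B : Matrix.SpecialLinearGroup (Fin n) F, B ∈ Cfsg.SU n F q → B.1 * M = M * B.1 := by
    intro B hB
    have hB' : Matrix.SpecialLinearGroup.toGL B ∈ Cfsg.GU n F q := hB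
    exact congrArg (fun g : ↥(Cfsg.GU n F q) => (g : GL (Fin n) F).1) (Subgroup.mem_center_iff.1 hA ⟨_, hB'⟩)
  have hoff : ∀ i j, i ≠ j → M i j = 0 := by
    intro i j hij
    have h := congrFun (congrFun (hcomm _ (Forms4.diag2n_mem_SU hij hc0 hcq)) i) j
    simp only [Matrix.SpecialLinearGroup.diag2n_coe, Matrix.diagonal_mul, Matrix.mul_diagonal,
      if_neg hij.symm, ↓reduceIte] at h
    by_contra h0
    apply hc2
    rw [mul_comm] at h
    have := mul_left_cancel₀ h0 h
    rw [sq]
    calc c * c = c * c⁻¹ := by rw [← this]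
      _ = 1 := mul_inv_cancel₀ hc0
  have hdiag : ∀ i, M i i = M ⟨0, by omega⟩ ⟨0, by omega⟩ := by
    intro i
    by_cases h0 : i = ⟨0, by omega⟩
    · rw [h0]
    · have h := congrArg (fun M => (M *ᵥ (Pi.single ⟨0, by omega⟩ 1 : Fin n → F)) i)
        (hcomm _ (Forms4.signedSwap_mem_SU hF h0))
      simp only [← Matrix.mulVec_mulVec, Forms4.signedSwap_mulVec h0 _ i] at h
      simp only [↓reduceIte] at h
      have h' : (fun k => if k = i then (Pi.single ⟨0, by omega⟩ 1 : Fin n → F) ⟨0, by omega⟩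
          else if k = (⟨0, by omega⟩ : Fin n) then -(Pi.single ⟨0, by omega⟩ 1 : Fin n → F) i
          else (Pi.single ⟨0, by omega⟩ 1 : Fin n → F) k) = Pi.single i 1 := by
        funext k
        by_cases hk : k = i
        · simp [hk]
        · by_cases hk0 : k = ⟨0, by omega⟩ <;> simp [hk, hk0, h0, Ne.symm h0]
      rw [h'] at h
      simpa [Matrix.mulVec_single] using h.symm
  set z : F := M ⟨0, by omega⟩ ⟨0, by omega⟩ with hz
  have hMz : M = Matrix.scalar (Fin n) z := by
    ext i j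
    rw [Matrix.scalar_apply]
    rcases eq_or_ne i j with rfl | hij
    · rw [Matrix.diagonal_apply_eq, hdiag]
    · rw [Matrix.diagonal_apply_ne _ hij, hoff i j hij]
  have he := A.2 (Pi.single ⟨0, by omega⟩ 1) (Pi.single ⟨0, by omega⟩ 1)
  simp only [Units.coeHom_apply, Cfsg.hermForm, ← hM, hMz, Matrix.scalar_apply, Matrix.mulVec_diagonal] at he
  rw [Finset.sum_eq_single ⟨0, by omega⟩, Finset.sum_eq_single ⟨0, by omega⟩] at he
  · simp only [Pi.single_eq_same, mul_one, one_pow] at he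
    have hz1 : z ^ (q + 1) = 1 := by rw [pow_succ']; exact he
    have hz0 : z ≠ 0 := fun h => by rw [h, zero_pow (by omega)] at hz1; exact zero_ne_one hz1
    exact ⟨Units.mk0 z hz0, hz1, Units.ext (by rw [← hM, hMz]; rfl)⟩
  all_goals first
    | (intro b _ hb; simp [Pi.single_eq_of_ne hb]; done)
    | simp

end CfsgLib.RootClasses
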