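import Cfsg.Agent.RootClasses.Orbits
import Mathlib

/-!
# One orbit of roots of unity realized by an isometry

For nodes `v j` stable under the Frobenius map and under inversion, conjugating the diagonal matrix of the nodes by
their Vandermonde matrix gives a matrix over the field preserving forms `Vᵀ diag(δ) V'`.
-/

set_option autoImplicit false

namespace CfsgLib.RootClasses

open Polynomial Matrix

/-- A family of distinct `r`-th roots of unity closed under Frobenius and inversion, none self-inverse. -/
structure Nodes (F : Type*) [Field F] [Fintype F] (r d : ℕ) where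
  /-- the nodes -/
  v : Fin d → Cl F
  inj : Function.Injective v
  /-- the permutation induced by Frobenius -/
  fr : Equiv.Perm (Fin d)
  /-- the permutation induced by inversion -/
  iv : Equiv.Perm (Fin d)
  frob_v : ∀ j, frob (v j) = v (fr j)
  inv_v : ∀ j, v (iv j) = (v j)⁻¹
  pow_v : ∀ j, v j ^ r = 1
  ne_inv : ∀ j, v j ≠ (v j)⁻¹

namespace Nodes

variable {F : Type*} [Field F] [Fintype F] {r d : ℕ} (D : Nodes F r d)

/-- The Vandermonde matrix of the nodes. -/
noncomputable def V : Matrix (Fin d) (Fin d) (Cl F) := vandermonde D.v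

/-- The Vandermonde matrix of the inverse nodes. -/
noncomputable def V' : Matrix (Fin d) (Fin d) (Cl F) := D.V.submatrix D.iv id

theorem det_V : D.V.det ≠ 0 := det_vandermonde_ne_zero_iff.2 D.inj

theorem det_V' : D.V'.det ≠ 0 := by
  rw [V', Matrix.det_permute]
  refine mul_ne_zero ?_ D.det_V
  rcases Int.units_eq_one_or (Equiv.Perm.sign D.iv) with h | h <;> simp [h]

theorem map_V : D.V.map frob = D.V.submatrix D.fr id := by
  ext j k
  simp [V, vandermonde, D.frob_v]

theorem iv_fr (j : Fin d) : D.iv (D.fr j) = D.fr (D.iv j) :=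
  D.inj (by rw [D.inv_v, ← D.frob_v, ← D.frob_v, D.inv_v, map_inv₀])

theorem iv_iv (j : Fin d) : D.iv (D.iv j) = j := D.inj (by rw [D.inv_v, D.inv_v, inv_inv])

theorem iv_ne (j : Fin d) : D.iv j ≠ j := fun h => D.ne_inv j (by rw [← D.inv_v, h])

theorem map_V' : D.V'.map frob = D.V'.submatrix D.fr id := by
  ext j k
  simp [V', V, vandermonde, D.frob_v, D.iv_fr]

/-- A matrix fixed by Frobenius is defined over the field. -/
theorem exists_matrix_of_map_frob {m n : Type*} {A : Matrix m n (Cl F)} (h : A.map frob = A) :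
    ∃ B : Matrix m n F, B.map (algebraMap F (Cl F)) = A := by
  have : ∀ i j, ∃ b : F, algebraMap F (Cl F) b = A i j := fun i j =>
    mem_range_of_pow_card (by rw [← frob_apply]; exact congrFun (congrFun h i) j)
  choose B hB using this
  exact ⟨Matrix.of B, Matrix.ext hB⟩

theorem exists_act : ∃ A : Matrix (Fin d) (Fin d) F,
    D.V * A.map (algebraMap F (Cl F)) = diagonal D.v * D.V := by
  set A₁ := D.V⁻¹ * (diagonal D.v * D.V)
  have hA₁ : D.V * A₁ = diagonal D.v * D.V := by
    rw [← mul_assoc, mul_nonsing_inv _ D.det_V.isUnit, one_mul]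
  have hdiag : (diagonal D.v).map frob = (diagonal D.v).submatrix D.fr D.fr := by
    rw [diagonal_map (map_zero _), submatrix_diagonal_equiv]
    exact congrArg diagonal (funext D.frob_v)
  obtain ⟨A, hA⟩ := exists_matrix_of_map_frob (A := A₁) (by
    have h := congrArg (fun M : Matrix (Fin d) (Fin d) (Cl F) => M.map frob) hA₁
    simp only [Matrix.map_mul, D.map_V, hdiag, submatrix_mul_equiv] at h
    have h2 : (D.V * A₁.map frob).submatrix D.fr id = (diagonal D.v * D.V).submatrix D.fr id :=
      (submatrix_mul D.V (A₁.map frob) D.fr id id Function.bijective_id).trans (by simpa using h)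
    have h3 : D.V * A₁.map frob = D.V * A₁ := by
      rw [hA₁]
      ext i j
      simpa using congrFun (congrFun h2 (D.fr.symm i)) j
    have := congrArg (D.V⁻¹ * ·) h3
    simpa [← mul_assoc, nonsing_inv_mul _ D.det_V.isUnit] using this)
  exact ⟨A, by rw [hA, hA₁]⟩

/-- The matrix acting with the nodes as eigenvalues. -/
noncomputable def act : Matrix (Fin d) (Fin d) F := D.exists_act.choose

theorem V_mul_act : D.V * D.act.map (algebraMap F (Cl F)) = diagonal D.v * D.V :=
  D.exists_act.choose_spec

theorem act_pow : D.act ^ r = 1 := by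
  apply Matrix.map_injective (algebraMap F (Cl F)).injective
  dsimp only
  rw [Matrix.map_pow, Matrix.map_one _ (map_zero _) (map_one _)]
  have h : ∀ k, D.V * D.act.map (algebraMap F (Cl F)) ^ k = diagonal D.v ^ k * D.V := fun k => by
    induction k with
    | zero => simp
    | succ k ih => rw [pow_succ, ← mul_assoc, ih, mul_assoc, D.V_mul_act, ← mul_assoc, ← pow_succ]
  have h1 := h r
  rw [diagonal_pow, show D.v ^ r = 1 from funext D.pow_v, diagonal_one', one_mul] at h1
  have := congrArg (D.V⁻¹ * ·) h1
  simpa [← mul_assoc, nonsing_inv_mul _ D.det_V.isUnit] using this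

theorem charpoly_act :
    D.act.charpoly.map (algebraMap F (Cl F)) = ∏ j, (X - C (D.v j)) := by
  rw [← Matrix.charpoly_map, ← Matrix.charpoly_diagonal]
  set A' := D.act.map (algebraMap F (Cl F))
  have h : A' = D.V⁻¹ * (diagonal D.v * D.V) := by
    rw [← D.V_mul_act, ← mul_assoc, nonsing_inv_mul _ D.det_V.isUnit, one_mul]
  rw [h, ← mul_assoc, Matrix.charpoly_mul_comm, ← mul_assoc, mul_nonsing_inv _ D.det_V.isUnit, one_mul]

theorem V'_mul_act :
    D.V' * D.act.map (algebraMap F (Cl F)) = diagonal (fun j => (D.v j)⁻¹) * D.V' := by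
  have h := congrArg (fun M : Matrix (Fin d) (Fin d) (Cl F) => M.submatrix D.iv id) D.V_mul_act
  rw [submatrix_mul _ _ D.iv id id Function.bijective_id,
    submatrix_mul _ _ D.iv D.iv id D.iv.bijective, submatrix_id_id, submatrix_diagonal_equiv] at h
  rw [V', h]
  congr 2
  exact funext D.inv_v

/-- The form with weights `δ`. -/
noncomputable def formCl (δ : Fin d → Cl F) : Matrix (Fin d) (Fin d) (Cl F) :=
  D.Vᵀ * diagonal δ * D.V'

theorem formCl_act (δ : Fin d → Cl F) :
    (D.act.map (algebraMap F (Cl F)))ᵀ * D.formCl δ * D.act.map (algebraMap F (Cl F)) =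
      D.formCl δ := by
  rw [formCl, ← mul_assoc, ← mul_assoc, ← transpose_mul, D.V_mul_act, transpose_mul,
    diagonal_transpose, mul_assoc _ D.V', D.V'_mul_act, ← mul_assoc, mul_assoc D.Vᵀ,
    mul_assoc D.Vᵀ, diagonal_mul_diagonal, diagonal_mul_diagonal]
  congr 2
  have hv : ∀ j, D.v j ≠ 0 := fun j h => D.ne_inv j (by rw [h, _root_.inv_zero])
  refine congrArg diagonal (funext fun j => ?_)
  field_simp [hv j]

theorem exists_altForm : ∃ M : Matrix (Fin d) (Fin d) F,
    M.map (algebraMap F (Cl F)) = D.formCl fun j => D.v j - (D.v j)⁻¹ := by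
  refine exists_matrix_of_map_frob ?_
  have hdiag : (diagonal fun j => D.v j - (D.v j)⁻¹).map frob =
      (diagonal fun j => D.v j - (D.v j)⁻¹).submatrix D.fr D.fr := by
    rw [diagonal_map (map_zero _), submatrix_diagonal_equiv]
    refine congrArg diagonal (funext fun j => ?_)
    simp [D.frob_v]
  rw [formCl, Matrix.map_mul, Matrix.map_mul, transpose_map, D.map_V, D.map_V', hdiag,
    transpose_submatrix, submatrix_mul_equiv, submatrix_mul_equiv, submatrix_id_id]

/-- The alternating form preserved by `act`. -/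
noncomputable def altForm : Matrix (Fin d) (Fin d) F := D.exists_altForm.choose

theorem map_altForm :
    D.altForm.map (algebraMap F (Cl F)) = D.formCl fun j => D.v j - (D.v j)⁻¹ :=
  D.exists_altForm.choose_spec

theorem act_altForm : D.actᵀ * D.altForm * D.act = D.altForm := by
  apply Matrix.map_injective (algebraMap F (Cl F)).injective
  dsimp only
  rw [Matrix.map_mul, Matrix.map_mul, transpose_map, D.map_altForm, D.formCl_act]

theorem det_altForm : D.altForm.det ≠ 0 := by
  intro h
  have h1 := congrArg Matrix.det D.map_altForm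
  rw [← RingHom.mapMatrix_apply, ← RingHom.map_det, h, map_zero, formCl, det_mul, det_mul,
    det_transpose, det_diagonal] at h1
  exact mul_ne_zero (mul_ne_zero D.det_V (Finset.prod_ne_zero_iff.2 fun j _ =>
    sub_ne_zero.2 (D.ne_inv j))) D.det_V' h1.symm

theorem formCl_apply (δ : Fin d → Cl F) (a b : Fin d) :
    D.formCl δ a b = ∑ j, D.v j ^ (a : ℕ) * δ j * (D.v j)⁻¹ ^ (b : ℕ) := by
  rw [formCl, Matrix.mul_apply]
  refine Finset.sum_congr rfl fun j _ => ?_
  rw [mul_diagonal, transpose_apply, V', submatrix_apply, id, V, vandermonde_apply, vandermonde_apply,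
    D.inv_v]

theorem altForm_transpose : D.altFormᵀ = -D.altForm := by
  apply Matrix.map_injective (algebraMap F (Cl F)).injective
  dsimp only
  rw [transpose_map, Matrix.map_neg _ (map_neg _), D.map_altForm]
  ext a b
  rw [transpose_apply, neg_apply, formCl_apply, formCl_apply, ← Finset.sum_neg_distrib,
    ← Equiv.sum_comp D.iv]
  refine Finset.sum_congr rfl fun j _ => ?_
  rw [D.inv_v, inv_inv]
  ring

theorem altForm_diag (a : Fin d) : D.altForm a a = 0 := by
  apply (algebraMap F (Cl F)).injective
  rw [map_zero, ← Matrix.map_apply (f := algebraMap F (Cl F)), D.map_altForm, formCl_apply]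
  have : ∀ j, D.v j ^ (a : ℕ) * (D.v j - (D.v j)⁻¹) * (D.v j)⁻¹ ^ (a : ℕ) = D.v j - D.v (D.iv j) := by
    intro j
    have hv : D.v j ≠ 0 := fun h => D.ne_inv j (by rw [h, _root_.inv_zero])
    rw [D.inv_v, mul_right_comm, ← mul_pow, mul_inv_cancel₀ hv, one_pow, one_mul]
  rw [Finset.sum_congr rfl fun j _ => this j, Finset.sum_sub_distrib, Equiv.sum_comp D.iv D.v, sub_self]

end Nodes

section cosets

variable {F : Type*} [Field F] [Fintype F] {r : ℕ} [hr : Fact r.Prime] [hr0 : NeZero (r : F)]

/-- The nodes of one coset of a subgroup containing the order of the field and `-1`. -/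
noncomputable def cosetNodes (hr2 : r ≠ 2) (H : Subgroup (ZMod r)ˣ) (hH : cardUnit F ∈ H)
    (hH1 : (-1 : (ZMod r)ˣ) ∈ H) (τ : (ZMod r)ˣ ⧸ H) : Nodes F r (Nat.card H) :=
  let e : Fin (Nat.card H) ≃ {x // x ∈ cosetElems H τ} :=
    (Finset.equivFinOfCardEq (card_cosetElems H τ)).symm
  let mk : ∀ h : (ZMod r)ˣ, h ∈ H → Equiv.Perm (Fin (Nat.card H)) := fun h hh =>
    e.permCongr.symm ((Equiv.mulLeft h).subtypePerm fun x => smul_mem_cosetElems H hh)
  { v := fun j => omg F r (((e j : (ZMod r)ˣ)) : ZMod r)
    inj := (omg_injective F r).comp (Units.val_injective.comp (Subtype.val_injective.comp e.injective))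
    fr := mk (cardUnit F) hH
    iv := mk (-1) hH1
    frob_v := fun j => by
      rw [frob_apply, omg_pow, mul_comm]
      simp [mk, Equiv.permCongr, Equiv.equivCongr]
      rfl
    inv_v := fun j => by
      rw [omg_inv]
      simp only [mk, Equiv.permCongr, Equiv.equivCongr, Equiv.coe_fn_symm_mk, Equiv.trans_apply,
        Equiv.symm_symm, Equiv.apply_symm_apply]
      exact congrArg (omg F r) ((Units.val_mul _ _).trans (by simp only [val_toUnits_apply, Units.val_neg, Units.val_one, neg_one_mul]))
    pow_v := fun j => by rw [omg_pow, ZMod.natCast_self, mul_zero, omg_zero]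
    ne_inv := fun j h => by
      rw [omg_inv] at h
      have h1 := omg_injective F r h
      set x : ZMod r := ((e j : (ZMod r)ˣ) : ZMod r) with hx
      have hx0 : x ≠ 0 := Units.ne_zero _
      have h2 : ((2 : ℕ) : ZMod r) * x = 0 := by push_cast; linear_combination h1
      rcases mul_eq_zero.1 h2 with h3 | h3
      · rw [ZMod.natCast_eq_zero_iff] at h3
        exact hr2 ((Nat.prime_dvd_prime_iff_eq hr.out Nat.prime_two).1 h3)
      · exact hx0 h3 }

theorem charpoly_cosetNodes (hr2 : r ≠ 2) (H : Subgroup (ZMod r)ˣ) (hH : cardUnit F ∈ H)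
    (hH1 : (-1 : (ZMod r)ˣ) ∈ H) (τ : (ZMod r)ˣ ⧸ H) :
    (cosetNodes hr2 H hH hH1 τ).act.charpoly = orbitPoly F H hH τ := by
  apply Polynomial.map_injective (algebraMap F (Cl F)) (RingHom.injective _)
  rw [Nodes.charpoly_act, map_orbitPoly, orbitPolyCl, ← Finset.prod_attach (cosetElems H τ),
    Finset.univ_eq_attach (cosetElems H τ) |>.symm]
  exact Fintype.prod_equiv (Finset.equivFinOfCardEq (card_cosetElems H τ)).symm _ _ fun j => rfl

end cosets

end CfsgLib.RootClasses
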