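import Cfsg.Agent.RootClasses.Orbits
import Cfsg.Agent.CharpolySS.Matrix
import Mathlib

/-!
# Counting the classes of elements of order `r`

Main results: `card_classes` (a group represented in `GL` in which elements killed by `r` are determined by their
characteristic polynomials), `card_tuples`, and the orders of the relevant subgroups of `(ZMod r)ˣ`.
-/

set_option autoImplicit false

namespace CfsgLib.RootClasses

open Polynomial

section classes

variable {F : Type*} [Field F] [Fintype F] {r : ℕ} [hr : Fact r.Prime] [hr0 : NeZero (r : F)]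
  (H : Subgroup (ZMod r)ˣ) (hH : cardUnit F ∈ H)

theorem classPoly_zero (a₀ : ℕ) : classPoly F H hH a₀ 0 = (X - 1) ^ a₀ := by
  simp [classPoly]

theorem charpoly_dvd_of_pow_eq_one {ν : Type*} [Fintype ν] [DecidableEq ν] {g : GL ν F}
    (hg : g ^ r = 1) : g.1.charpoly ∣ (X ^ r - 1) ^ Fintype.card ν := by
  refine CharpolySS.charpoly_dvd_pow _ _ (CharpolySS.aeval_X_pow_sub_one _ ?_)
  rw [← Units.val_pow_eq_pow_val, hg, Units.val_one]

/-- The classes of elements of order `r` correspond to the admissible tuples of multiplicities. -/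
theorem card_classes {G : Type*} [Group G] {ν : Type*} [Fintype ν] [DecidableEq ν] (ι : G →* GL ν F)
    (hconj : ∀ g h : G, g ^ r = 1 → h ^ r = 1 → (ι g).1.charpoly = (ι h).1.charpoly → IsConj g h)
    (hinv : ∀ g : G, g ^ r = 1 → Invariant H (ι g).1.charpoly)
    (ok : ((ZMod r)ˣ ⧸ H → ℕ) → Prop)
    (hok : ∀ g : G, g ^ r = 1 → ∀ a,
      (ι g).1.charpoly = classPoly F H hH (Fintype.card ν - Nat.card H * total H a) a →
      Nat.card H * total H a ≤ Fintype.card ν → ok a)
    (hexist : ∀ a, Nat.card H * total H a ≤ Fintype.card ν → a ≠ 0 → ok a → ∃ g : G, g ^ r = 1 ∧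
      (ι g).1.charpoly = classPoly F H hH (Fintype.card ν - Nat.card H * total H a) a) :
    Nat.card {C : ConjClasses G // ∃ g : G, ConjClasses.mk g = C ∧ orderOf g = r} =
      Nat.card {a : (ZMod r)ˣ ⧸ H → ℕ //
        Nat.card H * total H a ≤ Fintype.card ν ∧ a ≠ 0 ∧ ok a} := by
  classical
  have h1 : ((ι 1).1).charpoly = classPoly F H hH (Fintype.card ν) 0 := by
    rw [map_one, Units.val_one, Matrix.charpoly_one, classPoly_zero]
  let f : {a : (ZMod r)ˣ ⧸ H → ℕ // Nat.card H * total H a ≤ Fintype.card ν ∧ a ≠ 0 ∧ ok a} →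
      {C : ConjClasses G // ∃ g : G, ConjClasses.mk g = C ∧ orderOf g = r} := fun a =>
    ⟨ConjClasses.mk (hexist a.1 a.2.1 a.2.2.1 a.2.2.2).choose, _, rfl, by
      obtain ⟨hg, hχ⟩ := (hexist a.1 a.2.1 a.2.2.1 a.2.2.2).choose_spec
      refine orderOf_eq_prime hg fun h => a.2.2.1 ?_
      rw [h, h1] at hχ
      exact (classPoly_injective F H hH hχ).2.symm⟩
  refine (Nat.card_eq_of_bijective f ⟨fun a b hab => ?_, fun C => ?_⟩).symm
  · obtain ⟨-, hχa⟩ := (hexist a.1 a.2.1 a.2.2.1 a.2.2.2).choose_spec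
    obtain ⟨-, hχb⟩ := (hexist b.1 b.2.1 b.2.2.1 b.2.2.2).choose_spec
    obtain ⟨c, hc⟩ := isConj_iff.1 (ConjClasses.mk_eq_mk_iff_isConj.1 (congrArg Subtype.val hab))
    rw [← hc, map_mul, map_mul, map_inv, Units.val_mul, Units.val_mul,
      Matrix.coe_units_inv, Matrix.charpoly_units_conj, hχa] at hχb
    exact Subtype.ext (classPoly_injective F H hH hχb).2
  · obtain ⟨C, g, rfl, hg⟩ := C
    have hgr : g ^ r = 1 := hg ▸ pow_orderOf_eq_one g
    have hιg : ι g ^ r = 1 := by rw [← map_pow, hgr, map_one]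
    obtain ⟨a₀, a, ha⟩ := exists_eq_classPoly F H hH (Matrix.charpoly_monic _) (hinv g hgr)
      (charpoly_dvd_of_pow_eq_one hιg)
    have hdeg := natDegree_classPoly F H hH a₀ a
    rw [← ha, Matrix.charpoly_natDegree_eq_dim] at hdeg
    have hle : Nat.card H * total H a ≤ Fintype.card ν := by omega
    obtain rfl : a₀ = Fintype.card ν - Nat.card H * total H a := by omega
    have hne : a ≠ 0 := by
      rintro rfl
      refine hr.out.one_lt.ne' (hg.symm.trans ?_)
      have : IsConj g 1 := hconj g 1 hgr (one_pow r) (by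
        rw [ha, h1]
        congr 1
        simp [total])
      rw [isConj_one_left.1 this, orderOf_one]
    have hoka := hok g hgr a ha hle
    refine ⟨⟨a, hle, hne, hoka⟩, Subtype.ext (ConjClasses.mk_eq_mk_iff_isConj.2 ?_)⟩
    obtain ⟨hg', hχ⟩ := (hexist a hle hne hoka).choose_spec
    exact hconj _ _ hg' hgr (hχ.trans ha.symm)

omit [Fintype F] hr0 in
theorem card_quotient_mul_card :
    Nat.card ((ZMod r)ˣ ⧸ H) * Nat.card H = r - 1 := by
  rw [← Subgroup.card_eq_card_quotient_mul_card_subgroup, Nat.card_eq_fintype_card, ZMod.card_units]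

end classes

section tuples

variable {T : Type*} [Fintype T]

/-- Tuples with bounded sum. -/
theorem card_sum_le (M : ℕ) :
    Nat.card {a : T → ℕ // ∑ x, a x ≤ M} = (M + Fintype.card T).choose (Fintype.card T) := by
  classical
  have e : {a : T → ℕ // ∑ x, a x ≤ M} ≃ {b : Option T → ℕ // ∑ x, b x = M} :=
    { toFun := fun a => ⟨fun x => x.elim (M - ∑ y, a.1 y) a.1, by
        rw [Fintype.sum_option]; exact Nat.sub_add_cancel a.2⟩
      invFun := fun b => ⟨fun x => b.1 (some x), by
        have := b.2; rw [Fintype.sum_option] at this; exact le_of_le_of_eq (Nat.le_add_left _ _) this⟩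
      left_inv := fun a => rfl
      right_inv := fun b => Subtype.ext (funext fun x => by
        rcases x with _ | x
        · have := b.2; rw [Fintype.sum_option] at this; exact Nat.sub_eq_of_eq_add this.symm
        · rfl) }
  rw [Nat.card_congr (e.trans (Sym.equivNatSumOfFintype (Option T) M).symm), Nat.card_eq_fintype_card,
    Sym.card_sym_eq_choose, Fintype.card_option,
    show Fintype.card T + 1 + M - 1 = M + Fintype.card T by omega, Nat.choose_symm_add]

/-- Tuples with prescribed sum. -/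
theorem card_sum_eq (hT : 0 < Fintype.card T) (M : ℕ) :
    Nat.card {a : T → ℕ // ∑ x, a x = M} =
      (M + Fintype.card T - 1).choose (Fintype.card T - 1) := by
  classical
  obtain ⟨k, hk⟩ : ∃ k, Fintype.card T = k + 1 := ⟨Fintype.card T - 1, by omega⟩
  rw [Nat.card_congr (Sym.equivNatSumOfFintype T M).symm, Nat.card_eq_fintype_card,
    Sym.card_sym_eq_choose, hk, show k + 1 + M - 1 = M + k by omega,
    show M + (k + 1) - 1 = M + k by omega, show k + 1 - 1 = k by omega, Nat.choose_symm_add]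

/-- Non-zero tuples of bounded weighted sum, those filling the whole space subject to a condition. -/
theorem card_tuples {d N : ℕ} (hd : 0 < d) (hT : 0 < Fintype.card T) (P : Prop) [Decidable P]
    (hN : P ∨ 0 < N) :
    Nat.card {a : T → ℕ // d * ∑ x, a x ≤ N ∧ a ≠ 0 ∧ (d * ∑ x, a x = N → P)} =
      (N / d + Fintype.card T).choose (Fintype.card T) - 1 -
        (if d ∣ N ∧ ¬P then (N / d + Fintype.card T - 1).choose (Fintype.card T - 1) else 0) := by
  classical
  have hle : ∀ a : T → ℕ, d * ∑ x, a x ≤ N ↔ ∑ x, a x ≤ N / d := fun a => by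
    rw [Nat.le_div_iff_mul_le hd, mul_comm]
  set M := N / d
  set S : Set (T → ℕ) := {a | ∑ x, a x ≤ M}
  have hS : S.ncard = (M + Fintype.card T).choose (Fintype.card T) := by
    rw [← Nat.card_coe_set_eq]; exact card_sum_le M
  have hSf : S.Finite := Set.finite_of_ncard_pos (by rw [hS]; exact Nat.choose_pos (Nat.le_add_left _ _))
  have h0 : (0 : T → ℕ) ∈ S := by simp [S]
  by_cases h : d ∣ N ∧ ¬P
  · rw [if_pos h]
    set W : Set (T → ℕ) := {a | ∑ x, a x = M}
    have hW : W.ncard = (M + Fintype.card T - 1).choose (Fintype.card T - 1) := by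
      rw [← Nat.card_coe_set_eq]; exact card_sum_eq hT M
    have hM : 0 < M := Nat.div_pos (Nat.le_of_dvd (hN.resolve_left h.2) h.1) hd
    have hsub : W ⊆ S \ {0} := fun a (ha : ∑ x, a x = M) => ⟨ha.le, by
      rintro rfl; simp at ha; omega⟩
    rw [← hS, ← hW, show S.ncard - 1 = (S \ {0}).ncard by rw [Set.ncard_sdiff_singleton_of_mem h0],
      ← Set.ncard_sdiff hsub (hSf.subset (hsub.trans Set.sdiff_subset)), ← Nat.card_coe_set_eq]
    refine Nat.card_congr (Equiv.subtypeEquivRight fun a => ?_)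
    have hNM : d * M = N := Nat.mul_div_cancel' h.1
    show _ ↔ (∑ x, a x ≤ M ∧ a ∉ ({0} : Set _)) ∧ ¬ (∑ x, a x = M)
    rw [hle, Set.mem_singleton_iff]
    refine ⟨fun ⟨h1, h2, h3⟩ => ⟨⟨h1, h2⟩, fun e => h.2 (h3 (by rw [e, hNM]))⟩,
      fun ⟨⟨h1, h2⟩, h3⟩ => ⟨h1, h2, fun e => absurd ?_ h3⟩⟩
    rw [← hNM] at e
    exact Nat.eq_of_mul_eq_mul_left hd e
  · rw [if_neg h, Nat.sub_zero, ← hS,
      show S.ncard - 1 = (S \ {0}).ncard by rw [Set.ncard_sdiff_singleton_of_mem h0],
      ← Nat.card_coe_set_eq]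
    refine Nat.card_congr (Equiv.subtypeEquivRight fun a => ?_)
    show _ ↔ ∑ x, a x ≤ M ∧ a ∉ ({0} : Set _)
    rw [hle, Set.mem_singleton_iff]
    exact ⟨fun h' => ⟨h'.1, h'.2.1⟩, fun h' => ⟨h'.1, h'.2, fun e =>
      not_not.1 fun hP => h ⟨⟨_, e.symm⟩, hP⟩⟩⟩

end tuples

section totals

variable {r : ℕ} [hr : Fact r.Prime] (H : Subgroup (ZMod r)ˣ)

theorem total_eq [Fintype ((ZMod r)ˣ ⧸ H)] (a : (ZMod r)ˣ ⧸ H → ℕ) : total H a = ∑ τ, a τ := by
  rw [total]
  convert rfl

/-- The count of the tuples of multiplicities. -/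
theorem card_mult {d t N : ℕ} (hd : Nat.card H = d) (ht : t * d = r - 1) (P : Prop) [Decidable P]
    (hN : P ∨ 0 < N) :
    Nat.card {a : (ZMod r)ˣ ⧸ H → ℕ //
        Nat.card H * total H a ≤ N ∧ a ≠ 0 ∧ (Nat.card H * total H a = N → P)} =
      (N / d + t).choose t - 1 - (if d ∣ N ∧ ¬P then (N / d + t - 1).choose (t - 1) else 0) := by
  classical
  haveI := Fintype.ofFinite ((ZMod r)ˣ ⧸ H)
  have hd0 : 0 < d := hd ▸ Nat.card_pos
  have hT : Fintype.card ((ZMod r)ˣ ⧸ H) = t := by
    have := card_quotient_mul_card H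
    rw [hd, Nat.card_eq_fintype_card, ← ht] at this
    exact Nat.eq_of_mul_eq_mul_right hd0 this
  simp only [total_eq, hd]
  rw [card_tuples hd0 (hT ▸ Fintype.card_pos) P hN, hT]

theorem card_mult_true {d t N : ℕ} (hd : Nat.card H = d) (ht : t * d = r - 1) :
    Nat.card {a : (ZMod r)ˣ ⧸ H → ℕ // Nat.card H * total H a ≤ N ∧ a ≠ 0 ∧ True} =
      (N / d + t).choose t - 1 := by
  have := card_mult H hd ht True (N := N) (Or.inl trivial)
  simpa using this

end totals

end CfsgLib.RootClasses
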