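import Mathlib

/-!
# Orbit polynomials of primitive `r`-th roots of unity

For a subgroup `H` of `(ZMod r)ˣ` containing the order of the field, `orbitPoly` is the polynomial over the
field whose roots are `θ ^ x` for `x` in one coset of `H`; `classPoly` is a product of their powers and of a
power of `X - 1`.
-/

set_option autoImplicit false

namespace CfsgLib.RootClasses

open Polynomial

variable {F : Type*} [Field F] [Fintype F]

/-- A finite field inside a field of the same characteristic: the fixed points of `x ↦ x ^ q`. -/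
theorem mem_range_of_pow_card {L : Type*} [Field L] [Algebra F L] {x : L} (hx : x ^ Fintype.card F = x) :
    ∃ a : F, algebraMap F L a = x := by
  classical
  have h1 : (X ^ Fintype.card F - X : L[X]) =
      ((Finset.univ.val.map fun a : F => algebraMap F L a).map fun a => X - C a).prod := by
    have h2 : (X ^ Fintype.card F - X : F[X]) = ((Finset.univ.val.map fun a : F => a).map fun a => X - C a).prod := by
      rw [Multiset.map_id', ← FiniteField.roots_X_pow_card_sub_X]
      refine (prod_multiset_X_sub_C_of_monic_of_roots_card_eq ?_ ?_).symm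
      · exact monic_X_pow_sub ((degree_X_le).trans_lt (by exact_mod_cast Fintype.one_lt_card))
      · rw [FiniteField.roots_X_pow_card_sub_X, FiniteField.X_pow_card_sub_X_natDegree_eq _ Fintype.one_lt_card]
        rfl
    have h3 := congrArg (Polynomial.map (algebraMap F L)) h2
    simpa [Polynomial.map_multiset_prod, Multiset.map_map, Function.comp_def, Polynomial.map_prod] using h3
  have h4 := congrArg (Polynomial.eval x) h1
  rw [eval_sub, eval_pow, eval_X, hx, sub_self, eval_multiset_prod] at h4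
  have h5 := Multiset.prod_eq_zero_iff.1 h4.symm
  simp only [Multiset.map_map, Function.comp_def, eval_sub, eval_X, eval_C, Multiset.mem_map] at h5
  obtain ⟨a, -, ha⟩ := h5
  exact ⟨a, (sub_eq_zero.1 ha).symm⟩

variable (F) (r : ℕ) [hr : Fact r.Prime]

/-- An algebraic closure. -/
abbrev Cl : Type _ := AlgebraicClosure F

variable [hr0 : NeZero (r : F)]

theorem neZero_cl : NeZero (r : Cl F) :=
  ⟨fun h => hr0.out ((algebraMap F (Cl F)).injective (by rw [map_natCast, h, map_zero]))⟩

/-- A primitive `r`-th root of unity. -/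
noncomputable def root : Cl F :=
  haveI := neZero_cl F r
  (HasEnoughRootsOfUnity.exists_primitiveRoot (Cl F) r).choose

theorem root_spec : IsPrimitiveRoot (root F r) r :=
  haveI := neZero_cl F r
  (HasEnoughRootsOfUnity.exists_primitiveRoot (Cl F) r).choose_spec

/-- The power of the root indexed by a residue. -/
noncomputable def omg (a : ZMod r) : Cl F := root F r ^ a.val

theorem omg_natCast (k : ℕ) : omg F r (k : ZMod r) = root F r ^ k := by
  rw [omg, ZMod.val_natCast]
  exact (pow_eq_pow_mod k (root_spec F r).pow_eq_one).symm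

theorem omg_zero : omg F r 0 = 1 := by rw [omg, ZMod.val_zero, pow_zero]

theorem omg_pow (a : ZMod r) (k : ℕ) : omg F r a ^ k = omg F r (a * k) := by
  conv_rhs => rw [← ZMod.natCast_zmod_val a, ← Nat.cast_mul, omg_natCast]
  rw [omg, ← pow_mul]

theorem omg_add (a b : ZMod r) : omg F r (a + b) = omg F r a * omg F r b := by
  rw [← ZMod.natCast_zmod_val a, ← ZMod.natCast_zmod_val b, ← Nat.cast_add, omg_natCast, omg_natCast,
    omg_natCast, pow_add]

theorem omg_inv (a : ZMod r) : (omg F r a)⁻¹ = omg F r (-a) := by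
  refine inv_eq_of_mul_eq_one_right ?_
  rw [← omg_add, add_neg_cancel, omg_zero]

theorem omg_injective : Function.Injective (omg F r) := fun a b h =>
  ZMod.val_injective r ((root_spec F r).pow_inj (ZMod.val_lt a) (ZMod.val_lt b) h)

theorem omg_ne_zero (a : ZMod r) : omg F r a ≠ 0 :=
  pow_ne_zero _ ((root_spec F r).ne_zero hr.out.ne_zero)

theorem exists_omg {x : Cl F} (hx : x ^ r = 1) : ∃ a, omg F r a = x := by
  obtain ⟨i, -, hi⟩ := (root_spec F r).eq_pow_of_pow_eq_one hx
  exact ⟨(i : ZMod r), (omg_natCast F r i).trans hi⟩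

variable {r}

/-- The order of the field as a residue. -/
noncomputable def cardUnit : (ZMod r)ˣ :=
  Units.mk0 ((Fintype.card F : ℕ) : ZMod r) (by
    intro h
    rw [ZMod.natCast_eq_zero_iff] at h
    obtain ⟨p, hp⟩ := CharP.exists F
    obtain ⟨k, hpp, hk⟩ := FiniteField.card F p
    rw [hk] at h
    refine hr0.out ((CharP.cast_eq_zero_iff F p r).2 ?_)
    rw [(Nat.prime_dvd_prime_iff_eq hr.out hpp).1 (hr.out.dvd_of_dvd_pow h)])

omit [Fintype F] in
theorem coe_cardUnit [Fintype F] : ((cardUnit F : (ZMod r)ˣ) : ZMod r) = (Fintype.card F : ℕ) := rfl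

section invariant

variable {F}

/-- The multiplicities of the roots are constant on the cosets of `H`. -/
def Invariant (H : Subgroup (ZMod r)ˣ) (p : F[X]) : Prop :=
  ∀ h ∈ H, ∀ a : ZMod r,
    (p.map (algebraMap F (Cl F))).rootMultiplicity (omg F r ((h : ZMod r) * a)) =
      (p.map (algebraMap F (Cl F))).rootMultiplicity (omg F r a)

/-- The Frobenius map of the closure. -/
noncomputable def frob : Cl F →+* Cl F := (FiniteField.frobeniusAlgHom F (Cl F)).toRingHom

theorem frob_apply (x : Cl F) : frob x = x ^ Fintype.card F := rfl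

theorem frob_comp : (frob (F := F)).comp (algebraMap F (Cl F)) = algebraMap F (Cl F) :=
  RingHom.ext fun a => (FiniteField.frobeniusAlgHom F (Cl F)).commutes a

theorem rootMultiplicity_card (p : F[X]) (a : ZMod r) :
    (p.map (algebraMap F (Cl F))).rootMultiplicity (omg F r (((cardUnit F : (ZMod r)ˣ) : ZMod r) * a)) =
      (p.map (algebraMap F (Cl F))).rootMultiplicity (omg F r a) := by
  rw [coe_cardUnit, mul_comm, ← omg_pow, ← frob_apply,
    Polynomial.eq_rootMultiplicity_map (f := frob) (RingHom.injective _) (omg F r a), Polynomial.map_map,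
    frob_comp]

/-- Invariance only needs checking on generators. -/
theorem invariant_of_generators {H : Subgroup (ZMod r)ˣ} {p : F[X]} (S : Set (ZMod r)ˣ)
    (hH : H = Subgroup.closure S)
    (hS : ∀ h ∈ S, ∀ a : ZMod r,
      (p.map (algebraMap F (Cl F))).rootMultiplicity (omg F r ((h : ZMod r) * a)) =
        (p.map (algebraMap F (Cl F))).rootMultiplicity (omg F r a)) : Invariant H p := by
  intro h hh
  rw [hH] at hh
  refine Subgroup.closure_induction (p := fun (h : (ZMod r)ˣ) _ => ∀ a : ZMod r,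
    (p.map (algebraMap F (Cl F))).rootMultiplicity (omg F r ((h : ZMod r) * a)) =
      (p.map (algebraMap F (Cl F))).rootMultiplicity (omg F r a)) hS (fun a => by simp)
    (fun x y _ _ hx hy a => by rw [Units.val_mul, mul_assoc, hx, hy])
    (fun x _ hx a => by
      have := hx ((x⁻¹ : (ZMod r)ˣ) * a)
      rw [← mul_assoc, Units.mul_inv, one_mul] at this
      exact this.symm) hh

end invariant

section orbits

variable (H : Subgroup (ZMod r)ˣ)

/-- The roots in one coset. -/
noncomputable def cosetElems (τ : (ZMod r)ˣ ⧸ H) : Finset (ZMod r)ˣ :=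
  letI := Classical.decEq ((ZMod r)ˣ ⧸ H)
  Finset.univ.filter fun x => (QuotientGroup.mk x : (ZMod r)ˣ ⧸ H) = τ

theorem mem_cosetElems {τ : (ZMod r)ˣ ⧸ H} {x : (ZMod r)ˣ} :
    x ∈ cosetElems H τ ↔ (QuotientGroup.mk x : (ZMod r)ˣ ⧸ H) = τ := by simp [cosetElems]

theorem card_cosetElems (τ : (ZMod r)ˣ ⧸ H) : (cosetElems H τ).card = Nat.card H := by
  rw [← Nat.card_eq_finsetCard]
  obtain ⟨x, rfl⟩ := QuotientGroup.mk_surjective τ
  refine Nat.card_congr (Equiv.subtypeEquiv (Equiv.mulLeft x⁻¹) fun y => ?_)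
  rw [mem_cosetElems, Equiv.coe_mulLeft, eq_comm, QuotientGroup.eq]

theorem smul_mem_cosetElems {τ : (ZMod r)ˣ ⧸ H} {h x : (ZMod r)ˣ} (hh : h ∈ H) :
    h * x ∈ cosetElems H τ ↔ x ∈ cosetElems H τ := by
  rw [mem_cosetElems, mem_cosetElems, mul_comm, QuotientGroup.mk_mul_of_mem x hh]

/-- The orbit polynomial over the closure. -/
noncomputable def orbitPolyCl (τ : (ZMod r)ˣ ⧸ H) : (Cl F)[X] :=
  ∏ x ∈ cosetElems H τ, (X - C (omg F r (x : ZMod r)))

theorem exists_orbitPoly (hH : cardUnit F ∈ H) (τ : (ZMod r)ˣ ⧸ H) :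
    ∃ h : F[X], h.Monic ∧ h.map (algebraMap F (Cl F)) = orbitPolyCl F H τ := by
  have hfix : (orbitPolyCl F H τ).map frob = orbitPolyCl F H τ := by
    rw [orbitPolyCl, Polynomial.map_prod]
    refine Finset.prod_nbij' (fun x => cardUnit F * x) (fun x => (cardUnit F)⁻¹ * x)
      (fun x hx => (smul_mem_cosetElems H hH).2 hx) (fun x hx => (smul_mem_cosetElems H (inv_mem hH)).2 hx)
      (fun x _ => inv_mul_cancel_left _ x) (fun x _ => mul_inv_cancel_left _ x) fun x _ => ?_
    rw [Polynomial.map_sub, map_X, map_C, frob_apply, omg_pow, Units.val_mul, mul_comm, coe_cardUnit]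
  have hl : orbitPolyCl F H τ ∈ Polynomial.lifts (algebraMap F (Cl F)) := by
    rw [Polynomial.lifts_iff_coeff_lifts]
    intro k
    refine mem_range_of_pow_card ?_
    rw [← frob_apply, ← coeff_map, hfix]
  obtain ⟨h, h1, -, h3⟩ := Polynomial.lifts_and_degree_eq_and_monic hl (monic_prod_of_monic _ _ fun x _ => monic_X_sub_C _)
  exact ⟨h, h3, h1⟩

/-- The orbit polynomial. -/
noncomputable def orbitPoly (hH : cardUnit F ∈ H) (τ : (ZMod r)ˣ ⧸ H) : F[X] := (exists_orbitPoly F H hH τ).choose

variable (hH : cardUnit F ∈ H)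

theorem monic_orbitPoly (τ : (ZMod r)ˣ ⧸ H) : (orbitPoly F H hH τ).Monic := (exists_orbitPoly F H hH τ).choose_spec.1

theorem map_orbitPoly (τ : (ZMod r)ˣ ⧸ H) :
    (orbitPoly F H hH τ).map (algebraMap F (Cl F)) = orbitPolyCl F H τ :=
  (exists_orbitPoly F H hH τ).choose_spec.2

theorem natDegree_orbitPoly (τ : (ZMod r)ˣ ⧸ H) : (orbitPoly F H hH τ).natDegree = Nat.card H := by
  rw [← natDegree_map (algebraMap F (Cl F)), map_orbitPoly, orbitPolyCl,
    natDegree_finsetProd_X_sub_C_eq_card, card_cosetElems]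

/-- The polynomial with prescribed multiplicities. -/
noncomputable def classPoly (a₀ : ℕ) (a : (ZMod r)ˣ ⧸ H → ℕ) : F[X] :=
  letI := Fintype.ofFinite ((ZMod r)ˣ ⧸ H)
  (X - 1) ^ a₀ * ∏ τ, orbitPoly F H hH τ ^ a τ

theorem monic_classPoly (a₀ : ℕ) (a : (ZMod r)ˣ ⧸ H → ℕ) : (classPoly F H hH a₀ a).Monic := by
  letI := Fintype.ofFinite ((ZMod r)ˣ ⧸ H)
  refine Monic.mul ((by simpa using monic_X_sub_C (1 : F) : (X - 1 : F[X]).Monic).pow _)
    (monic_prod_of_monic _ _ fun τ _ => (monic_orbitPoly F H hH τ).pow _)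

/-- The total of the multiplicities. -/
noncomputable def total (a : (ZMod r)ˣ ⧸ H → ℕ) : ℕ :=
  letI := Fintype.ofFinite ((ZMod r)ˣ ⧸ H)
  ∑ τ, a τ

theorem natDegree_classPoly (a₀ : ℕ) (a : (ZMod r)ˣ ⧸ H → ℕ) :
    (classPoly F H hH a₀ a).natDegree = a₀ + Nat.card H * total H a := by
  letI := Fintype.ofFinite ((ZMod r)ˣ ⧸ H)
  have hX : (X - 1 : F[X]).Monic := by simpa using monic_X_sub_C (1 : F)
  rw [classPoly, Monic.natDegree_mul (hX.pow _)
    (monic_prod_of_monic _ _ fun τ _ => (monic_orbitPoly F H hH τ).pow _), hX.natDegree_pow,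
    natDegree_prod_of_monic _ _ fun τ _ => (monic_orbitPoly F H hH τ).pow _, total, Finset.mul_sum,
    show (X - 1 : F[X]).natDegree = 1 by simpa using natDegree_X_sub_C (1 : F), mul_one]
  congr 1
  refine Finset.sum_congr rfl fun τ _ => ?_
  rw [(monic_orbitPoly F H hH τ).natDegree_pow, natDegree_orbitPoly, mul_comm]

/-- The roots of a class polynomial in the closure. -/
theorem roots_classPoly (a₀ : ℕ) (a : (ZMod r)ˣ ⧸ H → ℕ) :
    letI := Fintype.ofFinite ((ZMod r)ˣ ⧸ H)
    ((classPoly F H hH a₀ a).map (algebraMap F (Cl F))).roots =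
      a₀ • ({1} : Multiset (Cl F)) +
        ∑ τ, a τ • ((cosetElems H τ).val.map fun x : (ZMod r)ˣ => omg F r (x : ZMod r)) := by
  letI := Fintype.ofFinite ((ZMod r)ˣ ⧸ H)
  have hne : ∀ τ ∈ (Finset.univ : Finset ((ZMod r)ˣ ⧸ H)), (orbitPolyCl F H τ) ^ a τ ≠ 0 := fun τ _ =>
    ((monic_prod_of_monic _ _ fun x _ => monic_X_sub_C _).pow _).ne_zero
  simp only [classPoly, Polynomial.map_mul, Polynomial.map_pow, Polynomial.map_prod, map_orbitPoly,
    Polynomial.map_sub, map_X, Polynomial.map_one]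
  rw [roots_mul (mul_ne_zero (pow_ne_zero _ (by simpa using X_sub_C_ne_zero (1 : Cl F)))
    (Finset.prod_ne_zero_iff.2 hne)), roots_pow,
    show (X - 1 : (Cl F)[X]).roots = {1} by simpa using roots_X_sub_C (1 : Cl F),
    roots_prod _ _ (Finset.prod_ne_zero_iff.2 hne)]
  congr 1
  rw [Multiset.bind, Finset.sum_eq_multiset_sum]
  refine congrArg Multiset.sum (Multiset.map_congr rfl fun τ _ => ?_)
  rw [roots_pow, orbitPolyCl, Finset.prod_eq_multiset_prod]
  congr 1
  rw [show (fun x : (ZMod r)ˣ => X - C (omg F r (x : ZMod r))) =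
    (fun z => X - C z) ∘ (fun x : (ZMod r)ˣ => omg F r (x : ZMod r)) from rfl, ← Multiset.map_map,
    roots_multiset_prod_X_sub_C]

theorem count_one_classPoly (a₀ : ℕ) (a : (ZMod r)ˣ ⧸ H → ℕ) :
    ((classPoly F H hH a₀ a).map (algebraMap F (Cl F))).rootMultiplicity (omg F r 0) = a₀ := by
  classical
  letI := Fintype.ofFinite ((ZMod r)ˣ ⧸ H)
  rw [← count_roots, roots_classPoly, omg_zero, Multiset.count_add, Multiset.count_nsmul,
    Multiset.count_singleton_self, mul_one, add_eq_left, Multiset.count_eq_zero]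
  intro h
  rw [Multiset.mem_sum] at h
  obtain ⟨τ, -, h⟩ := h
  obtain ⟨x, -, hx⟩ := Multiset.mem_map.1 (Multiset.mem_of_mem_nsmul h)
  rw [← omg_zero F r] at hx
  exact Units.ne_zero (x : (ZMod r)ˣ) (omg_injective F r hx)

theorem count_unit_classPoly (a₀ : ℕ) (a : (ZMod r)ˣ ⧸ H → ℕ) (x : (ZMod r)ˣ) :
    ((classPoly F H hH a₀ a).map (algebraMap F (Cl F))).rootMultiplicity (omg F r (x : ZMod r)) =
      a (QuotientGroup.mk x) := by
  classical
  letI := Fintype.ofFinite ((ZMod r)ˣ ⧸ H)
  have hinj : Function.Injective fun y : (ZMod r)ˣ => omg F r (y : ZMod r) :=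
    (omg_injective F r).comp Units.val_injective
  rw [← count_roots, roots_classPoly, Multiset.count_add, Multiset.count_nsmul, Multiset.count_sum']
  rw [Multiset.count_singleton, if_neg (fun h => x.ne_zero (omg_injective F r (h.trans (omg_zero F r).symm))),
    mul_zero, zero_add, Finset.sum_eq_single (QuotientGroup.mk x)]
  · rw [Multiset.count_nsmul, Multiset.count_map_eq_count' _ _ hinj,
      Multiset.count_eq_one_of_mem (Finset.nodup _) ((mem_cosetElems H).2 rfl), mul_one]
  · intro τ _ hτ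
    rw [Multiset.count_nsmul, Multiset.count_map_eq_count' _ _ hinj,
      Multiset.count_eq_zero_of_notMem (fun h => hτ ((mem_cosetElems H).1 h).symm), mul_zero]
  · simp

theorem classPoly_injective {a₀ b₀ : ℕ} {a b : (ZMod r)ˣ ⧸ H → ℕ}
    (h : classPoly F H hH a₀ a = classPoly F H hH b₀ b) : a₀ = b₀ ∧ a = b := by
  refine ⟨by rw [← count_one_classPoly F H hH a₀ a, h, count_one_classPoly], funext fun τ => ?_⟩
  obtain ⟨x, rfl⟩ := QuotientGroup.mk_surjective τ
  rw [← count_unit_classPoly F H hH a₀ a x, h, count_unit_classPoly]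

/-- An invariant polynomial whose roots are `r`-th roots of unity is a class polynomial. -/
theorem exists_eq_classPoly {p : F[X]} (hp : p.Monic) (hinv : Invariant H p) {k : ℕ}
    (hdvd : p ∣ (X ^ r - 1) ^ k) : ∃ a₀ a, p = classPoly F H hH a₀ a := by
  classical
  set P := p.map (algebraMap F (Cl F)) with hP
  refine ⟨P.rootMultiplicity (omg F r 0),
    fun τ => P.rootMultiplicity (omg F r ((τ.out : (ZMod r)ˣ) : ZMod r)), ?_⟩
  set a₀ := P.rootMultiplicity (omg F r 0)
  set a := fun τ : (ZMod r)ˣ ⧸ H => P.rootMultiplicity (omg F r ((τ.out : (ZMod r)ˣ) : ZMod r))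
  apply Polynomial.map_injective (algebraMap F (Cl F)) (RingHom.injective _)
  have hP0 : P ≠ 0 := (hp.map _).ne_zero
  have hcount : ∀ y : Cl F,
      P.rootMultiplicity y = ((classPoly F H hH a₀ a).map (algebraMap F (Cl F))).rootMultiplicity y := by
    intro y
    by_cases hy : y ^ r = 1
    · obtain ⟨z, rfl⟩ := exists_omg F r hy
      by_cases hz : z = 0
      · subst hz; rw [count_one_classPoly]
      · obtain ⟨x, rfl⟩ : ∃ x : (ZMod r)ˣ, (x : ZMod r) = z := ⟨Units.mk0 z hz, rfl⟩
        rw [count_unit_classPoly]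
        obtain ⟨h, hh, hx⟩ : ∃ h ∈ H, h * x = (QuotientGroup.mk x : (ZMod r)ˣ ⧸ H).out := by
          obtain ⟨⟨h, hh⟩, hxh⟩ := QuotientGroup.mk_out_eq_mul H x
          exact ⟨h, hh, by rw [hxh, mul_comm]⟩
        show _ = P.rootMultiplicity _
        rw [← hx, Units.val_mul, hinv h hh]
    · have h1 : ¬ P.IsRoot y := by
        intro h
        have hd : P ∣ (X ^ r - 1) ^ k := by
          have := Polynomial.map_dvd (algebraMap F (Cl F)) hdvd
          simpa using this
        have h2 := h.dvd hd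
        rw [IsRoot.def, eval_pow, pow_eq_zero_iff'] at h2
        exact hy (by simpa [sub_eq_zero] using h2.1)
      rw [rootMultiplicity_eq_zero h1, eq_comm, ← count_roots, Multiset.count_eq_zero, roots_classPoly]
      intro h
      refine hy ?_
      rcases Multiset.mem_add.1 h with h | h
      · rw [Multiset.mem_singleton.1 (Multiset.mem_of_mem_nsmul h), one_pow]
      · obtain ⟨τ, -, h⟩ := Multiset.mem_sum.1 h
        obtain ⟨x, -, rfl⟩ := Multiset.mem_map.1 (Multiset.mem_of_mem_nsmul h)
        rw [omg_pow, ZMod.natCast_self, mul_zero, omg_zero]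
  have hroots : P.roots = ((classPoly F H hH a₀ a).map (algebraMap F (Cl F))).roots :=
    Multiset.ext.2 fun y => by rw [count_roots, count_roots, hcount]
  rw [← hP, (IsAlgClosed.splits P).eq_prod_roots_of_monic (hp.map _),
    (IsAlgClosed.splits _).eq_prod_roots_of_monic ((monic_classPoly F H hH a₀ a).map _), hroots]

/-- A class polynomial is invariant. -/
theorem invariant_classPoly (a₀ : ℕ) (a : (ZMod r)ˣ ⧸ H → ℕ) : Invariant H (classPoly F H hH a₀ a) := by
  intro h hh z
  by_cases hz : z = 0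
  · subst hz; rw [mul_zero]
  · obtain ⟨x, rfl⟩ : ∃ x : (ZMod r)ˣ, (x : ZMod r) = z := ⟨Units.mk0 z hz, rfl⟩
    rw [← Units.val_mul, count_unit_classPoly, count_unit_classPoly, mul_comm,
      QuotientGroup.mk_mul_of_mem x hh]

end orbits

end CfsgLib.RootClasses
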