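import Cfsg.Agent.RootClasses.Orbits
import Cfsg.Agent.SemisimpleSU.Star
import Mathlib

/-!
# Conjugate-reciprocal invariance of characteristic polynomials and the acting subgroups

Main results: `rootMultiplicity_of_star_eq`, `star_classPoly`, `star_charpoly_of_form`,
`card_negSubgroup`, `card_pmSubgroup`, `eq_one_of_charpoly_dvd`.
-/

set_option autoImplicit false

namespace CfsgLib.RootClasses

open Polynomial CfsgLib.SemisimpleSU

section roots

variable {L : Type*} [Field L]

theorem reverse_X_sub_C {a : L} (ha : a ≠ 0) : (X - C a).reverse = C (-a) * (X - C a⁻¹) := by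
  rw [reverse, natDegree_X_sub_C, reflect_sub, ← pow_one (X : L[X]), reflect_monomial, reflect_C,
    revAt_le (le_refl 1), Nat.sub_self, pow_zero, pow_one, mul_sub, ← C_mul, neg_mul,
    mul_inv_cancel₀ ha, map_neg, map_neg, C_1]
  ring

theorem roots_reverse_prod (s : Multiset L) (hs : (0 : L) ∉ s) :
    ((s.map fun a => X - C a).prod).reverse.roots = s.map (·⁻¹) ∧
      ((s.map fun a => X - C a).prod).reverse ≠ 0 := by
  induction s using Multiset.induction_on with
  | empty => simp [show (1 : L[X]).reverse = 1 from reverse_C 1]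
  | cons a s ih =>
    obtain ⟨ha, hs'⟩ := not_or.1 (Multiset.mem_cons.not.1 hs)
    obtain ⟨ih1, ih2⟩ := ih hs'
    have hne : (X - C a).reverse ≠ 0 := by
      rw [reverse_X_sub_C (Ne.symm ha)]
      exact mul_ne_zero (C_ne_zero.2 (neg_ne_zero.2 (Ne.symm ha))) (X_sub_C_ne_zero _)
    rw [Multiset.map_cons, Multiset.prod_cons, reverse_mul_of_domain]
    refine ⟨?_, mul_ne_zero hne ih2⟩
    rw [roots_mul (mul_ne_zero hne ih2), ih1, reverse_X_sub_C (Ne.symm ha),
      roots_C_mul _ (neg_ne_zero.2 (Ne.symm ha)), roots_X_sub_C, Multiset.map_cons,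
      Multiset.singleton_add]

end roots

variable {F : Type*} [Field F] [Fintype F] {r : ℕ} [hr : Fact r.Prime] [hr0 : NeZero (r : F)]
  {σ : F →+* F} {φ : Cl F →+* Cl F}

omit [Fintype F] in
/-- The roots of the conjugate-reciprocal polynomial. -/
theorem roots_star (hφ : φ.comp (algebraMap F (Cl F)) = (algebraMap F (Cl F)).comp σ) {p : F[X]}
    (hp : p.Monic) (h0 : p.coeff 0 ≠ 0) :
    ((star σ p).map (algebraMap F (Cl F))).roots =
      (p.map (algebraMap F (Cl F))).roots.map fun x => (φ x)⁻¹ := by
  set alg := algebraMap F (Cl F)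
  have h1 : (p.map σ).reverse.map alg = ((p.map σ).map alg).reverse := by
    rw [reverse, reverse, natDegree_map (f := alg), ← reflect_map]
  have hsplit := IsAlgClosed.splits (p.map alg)
  have h2 : (p.map σ).map alg = ((p.map alg).roots.map φ |>.map fun a => X - C a).prod := by
    rw [Polynomial.map_map, ← hφ, ← Polynomial.map_map]
    conv_lhs => rw [hsplit.eq_prod_roots_of_monic (hp.map _)]
    rw [Polynomial.map_multiset_prod, Multiset.map_map, Multiset.map_map]
    simp [Function.comp_def]
  have hs : (0 : Cl F) ∉ (p.map alg).roots.map φ := by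
    intro h
    obtain ⟨x, hx, hx0⟩ := Multiset.mem_map.1 h
    rw [(map_eq_zero φ).1 hx0, mem_roots (hp.map _).ne_zero, IsRoot.def, ← coeff_zero_eq_eval_zero,
      coeff_map] at hx
    exact h0 ((map_eq_zero alg).1 hx)
  rw [SemisimpleSU.star, Polynomial.map_mul, map_C, h1, h2, roots_C_mul _ ((_root_.map_ne_zero _).2 (inv_ne_zero
    ((_root_.map_ne_zero σ).2 h0))), (roots_reverse_prod _ hs).1, Multiset.map_map]
  rfl

omit [Fintype F] in
theorem injective_inv_comp (φ : Cl F →+* Cl F) : Function.Injective fun x => (φ x)⁻¹ :=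
  fun _ _ h => φ.injective (inv_injective h)

omit [Fintype F] in
/-- A polynomial fixed by `star` has multiplicities invariant under the corresponding residue. -/
theorem rootMultiplicity_of_star_eq
    (hφ : φ.comp (algebraMap F (Cl F)) = (algebraMap F (Cl F)).comp σ) (u : (ZMod r)ˣ)
    (hu : ∀ a : ZMod r, (φ (omg F r a))⁻¹ = omg F r ((u : ZMod r) * a)) {p : F[X]} (hp : p.Monic)
    (h0 : p.coeff 0 ≠ 0) (hs : star σ p = p) (a : ZMod r) :
    (p.map (algebraMap F (Cl F))).rootMultiplicity (omg F r ((u : ZMod r) * a)) =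
      (p.map (algebraMap F (Cl F))).rootMultiplicity (omg F r a) := by
  classical
  rw [← count_roots, ← count_roots, ← hu]
  conv_lhs => rw [← hs, roots_star hφ hp h0]
  exact Multiset.count_map_eq_count' _ _ (injective_inv_comp φ) _

variable (H : Subgroup (ZMod r)ˣ) (hH : cardUnit F ∈ H)

theorem pow_eq_one_of_mem_roots {a₀ : ℕ} {a : (ZMod r)ˣ ⧸ H → ℕ} {x : Cl F}
    (hx : x ∈ ((classPoly F H hH a₀ a).map (algebraMap F (Cl F))).roots) : x ^ r = 1 := by
  letI := Fintype.ofFinite ((ZMod r)ˣ ⧸ H)
  rw [roots_classPoly] at hx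
  rcases Multiset.mem_add.1 hx with h | h
  · rw [Multiset.mem_singleton.1 (Multiset.mem_of_mem_nsmul h), one_pow]
  · obtain ⟨τ, -, h⟩ := Multiset.mem_sum.1 h
    obtain ⟨y, -, rfl⟩ := Multiset.mem_map.1 (Multiset.mem_of_mem_nsmul h)
    rw [omg_pow, ZMod.natCast_self, mul_zero, omg_zero]

theorem coeff_zero_classPoly (a₀ : ℕ) (a : (ZMod r)ˣ ⧸ H → ℕ) :
    (classPoly F H hH a₀ a).coeff 0 ≠ 0 := by
  intro h
  have h1 : (0 : Cl F) ∈ ((classPoly F H hH a₀ a).map (algebraMap F (Cl F))).roots := by
    rw [mem_roots ((monic_classPoly F H hH a₀ a).map _).ne_zero, IsRoot.def,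
      ← coeff_zero_eq_eval_zero, coeff_map, h, map_zero]
  have := pow_eq_one_of_mem_roots H hH h1
  rw [zero_pow hr.out.ne_zero] at this
  exact zero_ne_one this

/-- A class polynomial divides a power of `X ^ r - 1`. -/
theorem classPoly_dvd {a₀ : ℕ} {a : (ZMod r)ˣ ⧸ H → ℕ} {N : ℕ}
    (hN : (classPoly F H hH a₀ a).natDegree = N) : classPoly F H hH a₀ a ∣ (X ^ r - 1) ^ N := by
  set χ := classPoly F H hH a₀ a
  have hm : χ.Monic := monic_classPoly F H hH a₀ a
  rw [← Polynomial.map_dvd_map (algebraMap F (Cl F)) (RingHom.injective _) hm,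
    (IsAlgClosed.splits (χ.map _)).eq_prod_roots_of_monic (hm.map _)]
  simp only [Polynomial.map_pow, Polynomial.map_sub, map_X, Polynomial.map_one]
  rw [← hN, ← natDegree_map (algebraMap F (Cl F)),
    (IsAlgClosed.splits (χ.map (algebraMap F (Cl F)))).natDegree_eq_card_roots]
  have key : ∀ s : Multiset (Cl F), (∀ x ∈ s, x ^ r = 1) →
      (s.map fun x => X - C x).prod ∣ (X ^ r - 1 : (Cl F)[X]) ^ Multiset.card s := by
    intro s hs
    induction s using Multiset.induction_on with
    | empty => simp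
    | cons x s ih =>
      rw [Multiset.map_cons, Multiset.prod_cons, Multiset.card_cons, pow_succ']
      refine mul_dvd_mul ?_ (ih fun y hy => hs y (Multiset.mem_cons_of_mem hy))
      rw [dvd_iff_isRoot]
      simp [hs x (Multiset.mem_cons_self x s)]
  exact key _ fun x hx => pow_eq_one_of_mem_roots H hH hx

/-- Class polynomials are fixed by `star`. -/
theorem star_classPoly (hφ : φ.comp (algebraMap F (Cl F)) = (algebraMap F (Cl F)).comp σ)
    (u : (ZMod r)ˣ) (hu : ∀ a : ZMod r, (φ (omg F r a))⁻¹ = omg F r ((u : ZMod r) * a)) (huH : u ∈ H)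
    (a₀ : ℕ) (a : (ZMod r)ˣ ⧸ H → ℕ) :
    star σ (classPoly F H hH a₀ a) = classPoly F H hH a₀ a := by
  classical
  set χ := classPoly F H hH a₀ a
  have hm : χ.Monic := monic_classPoly F H hH a₀ a
  have h0 := coeff_zero_classPoly H hH a₀ a
  apply Polynomial.map_injective (algebraMap F (Cl F)) (RingHom.injective _)
  rw [(IsAlgClosed.splits _).eq_prod_roots_of_monic ((monic_star h0).map _),
    (IsAlgClosed.splits (χ.map _)).eq_prod_roots_of_monic (hm.map _), roots_star hφ hm h0]
  congr 2
  refine Multiset.ext.2 fun y => ?_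
  by_cases hy : y ^ r = 1
  · obtain ⟨z, rfl⟩ := exists_omg F r hy
    obtain ⟨w, rfl⟩ : ∃ w : ZMod r, (u : ZMod r) * w = z :=
      ⟨((u⁻¹ : (ZMod r)ˣ) : ZMod r) * z, by rw [← mul_assoc, Units.mul_inv, one_mul]⟩
    conv_lhs => rw [← hu, Multiset.count_map_eq_count' _ _ (injective_inv_comp φ)]
    rw [count_roots, count_roots]
    exact (invariant_classPoly F H hH a₀ a u huH w).symm
  · rw [Multiset.count_eq_zero.2 (fun h => hy ?_),
      Multiset.count_eq_zero.2 (fun h => hy (pow_eq_one_of_mem_roots H hH h))]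
    obtain ⟨x, hx, rfl⟩ := Multiset.mem_map.1 h
    rw [inv_pow, ← map_pow, pow_eq_one_of_mem_roots H hH hx, map_one, inv_one]

omit hH in
/-- An element of order prime to the characteristic whose characteristic polynomial divides a power
of `X ^ r - 1` is killed by `r`. -/
theorem pow_eq_one_of_charpoly_dvd {p : ℕ} [Fact p.Prime] [CharP F p] {ν : Type*} [Fintype ν]
    [DecidableEq ν] {g : GL ν F} (hg : (orderOf g).Coprime p) {k : ℕ}
    (h : g.1.charpoly ∣ (X ^ r - 1) ^ k) : g ^ r = 1 := by
  cases isEmpty_or_nonempty ν with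
  | inl h' => exact Units.ext (Subsingleton.elim _ _)
  | inr h' =>
  have h1 : ((g.1 ^ r - 1) : Matrix ν ν F) ^ k = 0 := by
    obtain ⟨c, hc⟩ := h
    have := congrArg (aeval g.1) hc
    rw [map_mul, Matrix.aeval_self_charpoly, zero_mul, map_pow] at this
    simpa using this
  have h2 : (g.1 ^ r) ^ (p ^ k) = 1 := by
    haveI : CharP (Matrix ν ν F) p := charP_of_injective_algebraMap (algebraMap F _).injective p
    rw [← sub_eq_zero, ← one_pow (p ^ k), ← sub_pow_char_pow_of_commute _ _ (Commute.one_right _)]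
    exact pow_eq_zero_of_le (Nat.lt_pow_self Fact.out (n := k)).le h1
  have h3 : orderOf (g ^ r) ∣ p ^ k := orderOf_dvd_of_pow_eq_one (Units.ext (by simpa using h2))
  have h4 : (orderOf (g ^ r)).Coprime (p ^ k) :=
    (hg.pow_right k).coprime_dvd_left (orderOf_pow_dvd r)
  rw [← orderOf_eq_one_iff]
  exact Nat.eq_one_of_dvd_coprimes h4 (dvd_refl _) h3

omit [Fintype F] hr hr0 in
/-- The characteristic polynomial of an isometry of a nondegenerate bilinear form is self-reciprocal. -/
theorem star_charpoly_of_form {ν : Type*} [Fintype ν] [DecidableEq ν] {A B : Matrix ν ν F}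
    (hB : B.det ≠ 0) (h : A.transpose * B * A = B) : star (RingHom.id F) A.charpoly = A.charpoly := by
  have hA : A.det ≠ 0 := by
    intro h0
    have := congrArg Matrix.det h
    rw [Matrix.det_mul, h0, mul_zero] at this
    exact hB this.symm
  have hinv : A⁻¹ = B⁻¹ * A.transpose * B := by
    refine Matrix.inv_eq_left_inv ?_
    rw [mul_assoc, mul_assoc, ← mul_assoc A.transpose, h, Matrix.nonsing_inv_mul _ hB.isUnit]
  have h1 : A⁻¹.charpoly = A.charpoly := by
    rw [hinv]
    calc (B⁻¹ * A.transpose * B).charpoly = (B * (B⁻¹ * A.transpose)).charpoly :=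
          Matrix.charpoly_mul_comm _ _
      _ = A.charpoly := by
          rw [← mul_assoc, Matrix.mul_nonsing_inv _ hB.isUnit, one_mul, Matrix.charpoly_transpose]
  conv_rhs => rw [← h1, Matrix.charpoly_inv _ ((Matrix.isUnit_iff_isUnit_det A).2 hA.isUnit),
    ← Matrix.reverse_charpoly]
  rw [SemisimpleSU.star, Polynomial.map_id, RingHom.id_apply]
  congr 1
  rw [Matrix.det_eq_sign_charpoly_coeff, Ring.inverse_eq_inv', mul_inv, ← inv_pow, inv_neg, inv_one,
    map_mul, map_pow, map_neg, map_one, ← mul_assoc, ← mul_pow]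
  simp

/-- The inverse, as the residue `-1`. -/
theorem inv_omg_id (a : ZMod r) :
    ((RingHom.id (Cl F)) (omg F r a))⁻¹ = omg F r (((-1 : (ZMod r)ˣ) : ZMod r) * a) := by
  rw [RingHom.id_apply, omg_inv, Units.val_neg, Units.val_one, neg_one_mul]

section subgroups

variable (hr2 : r ≠ 2)
include hr2

omit hr0 [Fintype F]

theorem orderOf_neg_one_units : orderOf (-1 : (ZMod r)ˣ) = 2 := by
  refine orderOf_eq_prime (by simp) fun h => ?_
  have h2 : ((2 : ℕ) : ZMod r) = 0 := by
    have := congrArg Units.val h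
    rw [Units.val_neg, Units.val_one] at this
    push_cast
    linear_combination -this
  rw [ZMod.natCast_eq_zero_iff] at h2
  exact hr2 ((Nat.prime_dvd_prime_iff_eq hr.out Nat.prime_two).1 h2)

theorem orderOf_neg_units (u : (ZMod r)ˣ) :
    orderOf (-u) = if Odd (orderOf u) then 2 * orderOf u else
      if orderOf u % 4 = 2 then orderOf u / 2 else orderOf u := by
  set i := orderOf u with hi
  have h1 := orderOf_neg_one_units hr2
  split_ifs with ho h4
  · rw [show -u = (-1) * u from (neg_one_mul u).symm,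
      (Commute.all _ u).orderOf_mul_eq_mul_orderOf_of_coprime (by
        rw [h1, ← hi]; exact (Nat.coprime_two_left).2 ho), h1]
  all_goals
    obtain ⟨j, hj⟩ := even_iff_two_dvd.1 (Nat.not_odd_iff_even.1 ho)
    have hj0 : 0 < j := by
      have : 0 < i := orderOf_pos u
      omega
    have hneg : u ^ j = -1 := by
      have hsq : ((u : ZMod r) ^ j) ^ 2 = 1 := by
        rw [← pow_mul, mul_comm, ← hj, ← Units.val_pow_eq_pow_val, hi, pow_orderOf_eq_one,
          Units.val_one]
      rcases sq_eq_one_iff.1 hsq with h | h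
      · have hd := orderOf_dvd_of_pow_eq_one (show u ^ j = 1 from Units.ext (by
          rw [Units.val_pow_eq_pow_val, h, Units.val_one]))
        have := Nat.le_of_dvd hj0 hd
        omega
      · exact Units.ext (by rw [Units.val_pow_eq_pow_val, h, Units.val_neg, Units.val_one])
    have hlow : ∀ d, (-u) ^ d = 1 → j ∣ d := fun d hd => by
      have : u ^ (2 * d) = 1 := by rw [pow_mul, ← neg_sq, ← pow_mul, mul_comm, pow_mul, hd, one_pow]
      have hdd := orderOf_dvd_of_pow_eq_one this
      rw [← hi, hj] at hdd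
      exact Nat.dvd_of_mul_dvd_mul_left two_pos hdd
  · have hodd : Odd j := Nat.odd_iff.2 (by omega)
    rw [hj, Nat.mul_div_cancel_left _ two_pos]
    exact Nat.dvd_antisymm (orderOf_dvd_of_pow_eq_one (by rw [hodd.neg_pow, hneg, neg_neg]))
      (hlow _ (pow_orderOf_eq_one _))
  · have hev : Even j := Nat.even_iff.2 (by omega)
    have hpj : (-u) ^ j = -1 := by rw [hev.neg_pow, hneg]
    obtain ⟨k, hk⟩ := hlow _ (pow_orderOf_eq_one (-u))
    have hk2 : k ∣ 2 := by
      have : (-u) ^ (2 * j) = 1 := by rw [mul_comm, pow_mul, hpj, neg_sq, one_pow]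
      have := orderOf_dvd_of_pow_eq_one this
      rw [hk, mul_comm 2 j] at this
      exact Nat.dvd_of_mul_dvd_mul_left hj0 this
    rcases (Nat.dvd_prime Nat.prime_two).1 hk2 with rfl | rfl
    · rw [mul_one] at hk
      rw [← hk, pow_orderOf_eq_one] at hpj
      have h3 := congrArg orderOf hpj
      rw [orderOf_one, h1] at h3
      exact absurd h3 (by norm_num)
    · rw [hk, hj, mul_comm]

/-- The subgroup generated by `u` and `-1`. -/
theorem card_closure_pair (u : (ZMod r)ˣ) :
    Nat.card (Subgroup.closure ({u, -1} : Set (ZMod r)ˣ)) =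
      if Odd (orderOf u) then 2 * orderOf u else orderOf u := by
  set i := orderOf u with hi
  split_ifs with ho
  · have he : Subgroup.closure ({u, -1} : Set (ZMod r)ˣ) = Subgroup.zpowers (-u) := by
      have hm1 : (-1 : (ZMod r)ˣ) ∈ Subgroup.zpowers (-u) :=
        ⟨(i : ℤ), (zpow_natCast (-u) i).trans (by rw [ho.neg_pow, hi, pow_orderOf_eq_one])⟩
      refine le_antisymm ((Subgroup.closure_le _).2 ?_) ?_
      · rintro x (rfl | rfl)
        · have := mul_mem hm1 (Subgroup.mem_zpowers (-x))
          rwa [neg_one_mul, neg_neg] at this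
        · exact hm1
      · rw [Subgroup.zpowers_le, show -u = (-1) * u from (neg_one_mul u).symm]
        exact mul_mem (Subgroup.subset_closure (by simp)) (Subgroup.subset_closure (by simp))
    rw [he, Nat.card_zpowers, orderOf_neg_units hr2, ← hi, if_pos ho]
  · have he : Subgroup.closure ({u, -1} : Set (ZMod r)ˣ) = Subgroup.zpowers u := by
      refine le_antisymm ((Subgroup.closure_le _).2 ?_) ?_
      · rintro x (rfl | rfl)
        · exact Subgroup.mem_zpowers x
        · obtain ⟨j, hj⟩ := even_iff_two_dvd.1 (Nat.not_odd_iff_even.1 ho)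
          refine ⟨(j : ℤ), (zpow_natCast u j).trans ?_⟩
          have hsq : ((u : ZMod r) ^ j) ^ 2 = 1 := by
            rw [← pow_mul, mul_comm, ← hj, ← Units.val_pow_eq_pow_val, hi, pow_orderOf_eq_one,
              Units.val_one]
          rcases sq_eq_one_iff.1 hsq with h | h
          · have hd := orderOf_dvd_of_pow_eq_one (show u ^ j = 1 from Units.ext (by
              rw [Units.val_pow_eq_pow_val, h, Units.val_one]))
            have : 0 < i := orderOf_pos u
            have := Nat.le_of_dvd (by omega) hd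
            omega
          · exact Units.ext (by rw [Units.val_pow_eq_pow_val, h, Units.val_neg, Units.val_one])
      · rw [Subgroup.zpowers_le]
        exact Subgroup.subset_closure (by simp)
    rw [he, Nat.card_zpowers]

end subgroups

end CfsgLib.RootClasses
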