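import Cfsg.Agent.RootClasses.Blocks
import Cfsg.Agent.Forms.SymplecticBasis
import Mathlib

/-!
# Elements of `Sp` with prescribed orbits of eigenvalues

Main results: `charpoly_blockDiagonal`, `exists_sp_of_alt`, `exists_sp_classPoly`.
-/

set_option autoImplicit false

namespace CfsgLib.RootClasses

open Polynomial Matrix

/-- The characteristic polynomial of a block diagonal matrix. -/
theorem charpoly_blockDiagonal {R : Type*} [CommRing R] {n o : Type*} [Fintype n] [DecidableEq n]
    [Fintype o] [DecidableEq o] (M : o → Matrix n n R) :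
    (blockDiagonal M).charpoly = ∏ k, (M k).charpoly := by
  have h : charmatrix (blockDiagonal M) = blockDiagonal fun k => charmatrix (M k) := by
    refine Matrix.ext fun x y => ?_
    obtain ⟨i, k⟩ := x; obtain ⟨j, l⟩ := y
    rcases eq_or_ne k l with rfl | hkl
    · rcases eq_or_ne i j with rfl | hij
      · simp [blockDiagonal_apply_eq, charmatrix_apply_eq]
      · rw [blockDiagonal_apply_eq, charmatrix_apply_ne _ _ _ (by simp [hij]),
          charmatrix_apply_ne _ _ _ hij, blockDiagonal_apply_eq]
    · rw [blockDiagonal_apply_ne _ _ _ hkl, charmatrix_apply_ne _ _ _ (by simp [hkl]),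
        blockDiagonal_apply_ne _ _ _ hkl, map_zero, neg_zero]
  rw [Matrix.charpoly, h, det_blockDiagonal]
  rfl

variable {F : Type*} [Field F]

theorem isAlt_toBilin' {I : Type*} [Fintype I] [DecidableEq I] {M : Matrix I I F} (hT : Mᵀ = -M)
    (hd : ∀ i, M i i = 0) : (Matrix.toBilin' M).IsAlt := by
  intro v
  rw [Matrix.toBilin'_apply, ← Finset.sum_product']
  refine Finset.sum_involution (fun p _ => p.swap) (fun p _ => ?_) (fun p _ hp => ?_)
    (fun p _ => by simp) (fun p _ => Prod.swap_swap p)
  · have := congrFun (congrFun hT p.1) p.2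
    rw [transpose_apply, neg_apply] at this
    show v p.1 * M p.1 p.2 * v p.2 + v p.2 * M p.2 p.1 * v p.1 = 0
    rw [this]
    ring
  · intro h
    obtain ⟨i, j⟩ := p
    simp only [Prod.swap_prod_mk, Prod.mk.injEq] at h
    obtain ⟨rfl, -⟩ := h
    exact hp (by simp [hd])

/-- An isometry of a nondegenerate alternating form in dimension `2m` gives an element of `Sp`. -/
theorem exists_sp_of_alt {m : ℕ} {I : Type*} [Fintype I] [DecidableEq I] (A M : Matrix I I F)
    (hI : Fintype.card I = m + m) (hT : Mᵀ = -M) (hd : ∀ i, M i i = 0) (hdet : M.det ≠ 0)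
    (h : Aᵀ * M * A = M) :
    ∃ g : Matrix.symplecticGroup (Fin m) F,
      (g : Matrix (Fin m ⊕ Fin m) (Fin m ⊕ Fin m) F).charpoly = A.charpoly ∧
        ∀ k, A ^ k = 1 → g ^ k = 1 := by
  set B := Matrix.toBilin' M with hBdef
  have hB : B.IsAlt := isAlt_toBilin' hT hd
  obtain ⟨m', b, h1, h2, h3⟩ := Forms.exists_symplectic_basis_nondeg B hB
    (LinearMap.BilinForm.nondegenerate_toBilin'_of_det_ne_zero' M hdet)
  obtain rfl : m' = m := by
    have := Module.finrank_eq_card_basis b
    rw [Module.finrank_pi, hI, Fintype.card_sum, Fintype.card_fin] at this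
    omega
  set e := b.reindex (Equiv.sumComm (Fin m') (Fin m')) with he
  have hJ : LinearMap.BilinForm.toMatrix e B = Matrix.J (Fin m') F := by
    ext x y
    rw [LinearMap.BilinForm.toMatrix_apply, he, Module.Basis.reindex_apply, Module.Basis.reindex_apply]
    rcases x with i | i <;> rcases y with j | j <;>
      simp only [Equiv.sumComm_symm, Equiv.sumComm_apply, Sum.swap_inl, Sum.swap_inr, Matrix.J,
        fromBlocks_apply₁₁, fromBlocks_apply₁₂, fromBlocks_apply₂₁, fromBlocks_apply₂₂, Matrix.zero_apply]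
    · exact h3 i j
    · rw [← LinearMap.IsAlt.neg hB, h1 j i, neg_apply, one_apply]
      simp only [eq_comm]
    · rw [h1 i j, one_apply]
    · exact h2 i j
  have hcomp : B.comp (Matrix.toLinAlgEquiv' A) (Matrix.toLinAlgEquiv' A) = B := by
    show (Matrix.toBilin' M).comp (Matrix.toLin' A) (Matrix.toLin' A) = _
    rw [Matrix.toBilin'_comp, h]
  set g := LinearMap.toMatrixAlgEquiv e (Matrix.toLinAlgEquiv' A) with hg
  have hmem : g ∈ Matrix.symplecticGroup (Fin m') F := by
    rw [SymplecticGroup.mem_iff']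
    have := LinearMap.BilinForm.toMatrix_comp e e B (Matrix.toLinAlgEquiv' A) (Matrix.toLinAlgEquiv' A)
    rw [hcomp, hJ] at this
    exact this.symm
  refine ⟨⟨g, hmem⟩, ?_, fun k hk => Subtype.ext ?_⟩
  · show g.charpoly = _
    rw [hg]
    exact (LinearMap.charpoly_toMatrix _ e).trans ((Matrix.toLin'_apply' A).symm ▸ Matrix.charpoly_toLin' A)
  · show g ^ k = 1
    rw [hg, ← map_pow, ← map_pow, hk, map_one, map_one]

variable [Fintype F] {r : ℕ} [hr : Fact r.Prime] [hr0 : NeZero (r : F)]

/-- Every admissible class polynomial occurs in `Sp`. -/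
theorem exists_sp_classPoly (hr2 : r ≠ 2) (H : Subgroup (ZMod r)ˣ) (hH : cardUnit F ∈ H)
    (hH1 : (-1 : (ZMod r)ˣ) ∈ H) (hev : Even (Nat.card H)) {m : ℕ} (a : (ZMod r)ˣ ⧸ H → ℕ)
    (ha : Nat.card H * total H a ≤ m + m) :
    ∃ g : Matrix.symplecticGroup (Fin m) F, g ^ r = 1 ∧
      (g : Matrix (Fin m ⊕ Fin m) (Fin m ⊕ Fin m) F).charpoly =
        classPoly F H hH (m + m - Nat.card H * total H a) a := by
  classical
  letI := Fintype.ofFinite ((ZMod r)ˣ ⧸ H)
  obtain ⟨d₂, hd₂⟩ := hev
  set c := m - d₂ * total H a with hc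
  have he : Nat.card H * total H a = d₂ * total H a + d₂ * total H a := by rw [hd₂, add_mul]
  let o := Σ τ : (ZMod r)ˣ ⧸ H, Fin (a τ)
  let D : o → Nodes F r (Nat.card H) := fun x => cosetNodes hr2 H hH hH1 x.1
  let A : Matrix ((Fin (Nat.card H) × o) ⊕ (Fin c ⊕ Fin c)) ((Fin (Nat.card H) × o) ⊕ (Fin c ⊕ Fin c)) F :=
    fromBlocks (blockDiagonal fun x => (D x).act) 0 0 1
  let M : Matrix ((Fin (Nat.card H) × o) ⊕ (Fin c ⊕ Fin c)) ((Fin (Nat.card H) × o) ⊕ (Fin c ⊕ Fin c)) F :=
    fromBlocks (blockDiagonal fun x => (D x).altForm) 0 0 (Matrix.J (Fin c) F)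
  have hcard : Fintype.card ((Fin (Nat.card H) × o) ⊕ (Fin c ⊕ Fin c)) = m + m := by
    simp only [Fintype.card_sum, Fintype.card_prod, Fintype.card_fin, o, Fintype.card_sigma]
    rw [show (∑ τ, a τ) = total H a from rfl, hc]
    omega
  obtain ⟨g, hg, hgr⟩ := exists_sp_of_alt A M hcard
    (by
      rw [fromBlocks_transpose, fromBlocks_neg, blockDiagonal_transpose, ← blockDiagonal_neg,
        Matrix.J_transpose]
      simp only [transpose_zero, neg_zero]
      congr 2
      exact funext fun x => (D x).altForm_transpose)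
    (by
      rintro (⟨i, x⟩ | (i | i))
      · simp [M, blockDiagonal_apply_eq, (D x).altForm_diag]
      all_goals simp [M, Matrix.J])
    (by
      rw [det_fromBlocks_zero₂₁, det_blockDiagonal]
      exact mul_ne_zero (Finset.prod_ne_zero_iff.2 fun x _ => (D x).det_altForm)
        (Matrix.isUnit_det_J (Fin c) F).ne_zero)
    (by
      simp only [A, M, fromBlocks_transpose, fromBlocks_multiply, blockDiagonal_transpose,
        ← blockDiagonal_mul, transpose_zero, transpose_one, Matrix.mul_zero, Matrix.zero_mul, add_zero,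
        zero_add, Matrix.one_mul, Matrix.mul_one]
      congr 2
      exact funext fun x => (D x).act_altForm)
  refine ⟨g, hgr r ?_, ?_⟩
  · simp only [A]
    rw [fromBlocks_diagonal_pow, ← blockDiagonal_pow, one_pow,
      show (fun x => (D x).act) ^ r = 1 from funext fun x => (D x).act_pow, blockDiagonal_one,
      fromBlocks_one]
  · rw [hg]
    simp only [A]
    rw [charpoly_fromBlocks_zero₁₂, charpoly_blockDiagonal, Matrix.charpoly_one, classPoly, mul_comm,
      Fintype.card_sum, Fintype.card_fin, show c + c = m + m - Nat.card H * total H a by omega]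
    congr 1
    rw [Fintype.prod_sigma]
    refine Finset.prod_congr rfl fun τ _ => ?_
    rw [Finset.prod_congr rfl fun i _ => charpoly_cosetNodes hr2 H hH hH1 τ, Finset.prod_const,
      Finset.card_univ, Fintype.card_fin]

end CfsgLib.RootClasses
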