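import Cfsg.Agent.RootClasses.Count
import Cfsg.Agent.RootClasses.Star
import Cfsg.Agent.RootClasses.Symplectic
import Cfsg.Agent.S2590
import Cfsg.Agent.Spinor.StdForms
import Mathlib

/-!
# Elements of order `r` in orthogonal groups

Main results: `isConj_isometry_of_charpoly`, `invariant_isometry`, `exists_block` (all orbit blocks from one
element of order `r` in a small group, by taking powers), `exists_glue` (isometries along an embedding).
-/

set_option autoImplicit false

namespace CfsgLib.RootClasses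

open Polynomial Matrix

variable {F : Type*} [Field F] [Fintype F] {r : ℕ} [hr : Fact r.Prime] [hr0 : NeZero (r : F)]

omit hr0 in
theorem coprime_char (hr0 : (r : F) ≠ 0) : ∃ p : ℕ, p.Prime ∧ CharP F p ∧ r.Coprime p := by
  obtain ⟨p, hp⟩ := CharP.exists F
  obtain ⟨k, hpp, -⟩ := FiniteField.card F p
  exact ⟨p, hpp, hp, (Nat.coprime_primes hr.out hpp).2 fun h =>
    hr0 ((CharP.cast_eq_zero_iff F p r).2 (h ▸ dvd_rfl))⟩

/-- The isometry group of a quadratic form on coordinates. -/
abbrev ogrp {F : Type*} [Field F] {ν : Type} [Fintype ν] [DecidableEq ν] (Q : QuadraticForm F (ν → F)) :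
    Subgroup (GL ν F) :=
  Cfsg.isometryGroup F (⇑Q : (ν → F) → F)

section isometry

variable {ν : Type} [Fintype ν] [DecidableEq ν] {Q : QuadraticForm F (ν → F)}

omit hr0 in
theorem isConj_isometry_of_charpoly (hr0 : (r : F) ≠ 0) (hr2 : r ≠ 2)
    (hQ : (QuadraticMap.polarBilin Q).Nondegenerate) (g h : ↥(ogrp Q))
    (hg : g ^ r = 1) (hh : h ^ r = 1)
    (hc : (g : GL ν F).1.charpoly = (h : GL ν F).1.charpoly) : IsConj g h := by
  classical
  let e := Fintype.equivFin ν
  let Q' : QuadraticForm F (Fin (Fintype.card ν) → F) := Q.comp (LinearMap.funLeft F F e)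
  have hQ' : (QuadraticMap.polarBilin Q').Nondegenerate := by
    refine StdForms.nondegenerate_of_sep _ fun x hx => ?_
    have h0 : x ∘ e = 0 := hQ.1 _ fun y => by
      have h := hx (y ∘ e.symm)
      rw [QuadraticMap.polar] at h
      simp only [Q', QuadraticMap.comp_apply, map_add] at h
      have he : LinearMap.funLeft F F e (y ∘ e.symm) = y := funext fun i => congrArg y (e.symm_apply_apply i)
      rw [he] at h
      exact h
    exact funext fun i => by simpa using congrFun h0 (e.symm i)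
  let Φ : GL ν F ≃* GL (Fin (Fintype.card ν)) F := Units.mapEquiv (reindexAlgEquiv F F e).toMulEquiv
  have hΦ : ∀ (M : GL ν F) (v : Fin (Fintype.card ν) → F),
      ((Φ M).1 *ᵥ v) ∘ e = M.1 *ᵥ (v ∘ e) := fun M v => funext fun i => by
    show (reindex e e M.1 *ᵥ v) (e i) = _
    rw [reindex_apply, submatrix_mulVec_equiv]
    simp
  have hmem : ∀ M : GL ν F, M ∈ ogrp Q → Φ M ∈ ogrp Q' :=
    fun M hM v _ => by
      show Q (((Φ M).1 *ᵥ v) ∘ e) = Q (v ∘ e)
      rw [hΦ]
      exact hM _ 0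
  obtain ⟨p, hpp, hcp, hpr⟩ := coprime_char hr0
  haveI := hcp
  haveI : Fact p.Prime := ⟨hpp⟩
  let f : ↥(ogrp Q) →* ↥(ogrp Q') :=
    (Φ.toMonoidHom.comp (ogrp Q).subtype).codRestrict _ fun M => hmem _ M.2
  have hord : ∀ M : ↥(ogrp Q), M ^ r = 1 → orderOf (f M) ∣ r := fun M hM =>
    orderOf_dvd_of_pow_eq_one (by rw [← map_pow, hM, map_one])
  have hordGL : ∀ M : ↥(ogrp Q), M ^ r = 1 →
      (orderOf (M : GL ν F)).Coprime p := fun M hM =>
    hpr.coprime_dvd_left (orderOf_dvd_of_pow_eq_one (by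
      rw [← SubmonoidClass.coe_pow, hM, OneMemClass.coe_one]))
  have hGL : IsConj (g : GL ν F) (h : GL ν F) :=
    CharpolySS.isConj_GL_of_charpoly_eq _ _ (hordGL g hg) (hordGL h hh) hc
  obtain ⟨k, hk⟩ := isConj_iff.1 ((Cfsg.Agent.S2590.result Q' hQ' (f g) (f h)
    ((hr.out.odd_of_ne_two hr2).of_dvd_nat (hord g hg)) (hpr.coprime_dvd_left (hord g hg))).2
      ((Units.coeHom _).map_isConj (Φ.toMonoidHom.map_isConj hGL)))
  refine isConj_iff.2 ⟨⟨Φ.symm (k : GL (Fin (Fintype.card ν)) F), fun v _ => ?_⟩, Subtype.ext ?_⟩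
  · have hk2 := k.2 (v ∘ e.symm) 0
    change Q (((k : GL (Fin (Fintype.card ν)) F).1 *ᵥ (v ∘ e.symm)) ∘ e) = Q ((v ∘ e.symm) ∘ e) at hk2
    rw [← Φ.apply_symm_apply (k : GL (Fin (Fintype.card ν)) F), hΦ,
      show (v ∘ e.symm) ∘ e = v from funext fun i => congrArg v (e.symm_apply_apply i)] at hk2
    exact hk2
  · apply Φ.injective
    have := congrArg Subtype.val hk
    simp only [Subgroup.coe_mul, Subgroup.coe_inv] at this ⊢
    rw [map_mul, map_mul, map_inv, Φ.apply_symm_apply]
    exact this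

omit [Fintype F] hr0 hr in
theorem star_charpoly_isometry (hQ : (QuadraticMap.polarBilin Q).Nondegenerate)
    (g : ↥(ogrp Q)) :
    SemisimpleSU.star (RingHom.id F) (g : GL ν F).1.charpoly = (g : GL ν F).1.charpoly := by
  classical
  refine star_charpoly_of_form (B := LinearMap.BilinForm.toMatrix' (QuadraticMap.polarBilin Q)) ?_ ?_
  · rw [← Matrix.nondegenerate_iff_det_ne_zero]
    exact LinearMap.BilinForm.nondegenerate_toMatrix'_iff.2 hQ
  · rw [← LinearMap.toMatrix'_toLin' (g : GL ν F).1, ← LinearMap.BilinForm.toMatrix'_comp]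
    congr 1
    refine LinearMap.ext fun x => LinearMap.ext fun y => ?_
    show QuadraticMap.polar (⇑Q) ((g : GL ν F).1 *ᵥ x) ((g : GL ν F).1 *ᵥ y) =
      QuadraticMap.polar (⇑Q) x y
    have hQg : ∀ v, Q ((g : GL ν F).1 *ᵥ v) = Q v := fun v => g.2 v 0
    simp only [QuadraticMap.polar, ← mulVec_add, hQg]

theorem invariant_isometry (hQ : (QuadraticMap.polarBilin Q).Nondegenerate)
    (g : ↥(ogrp Q)) :
    Invariant (Subgroup.closure ({cardUnit F, -1} : Set (ZMod r)ˣ)) (g : GL ν F).1.charpoly := by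
  refine invariant_of_generators {cardUnit F, -1} rfl ?_
  rintro h (rfl | rfl) a
  · exact rootMultiplicity_card _ a
  · refine rootMultiplicity_of_star_eq (σ := RingHom.id F) (φ := RingHom.id (Cl F)) rfl (-1)
      inv_omg_id (Matrix.charpoly_monic _) ?_ (star_charpoly_isometry hQ g) a
    intro h0
    have hd := (Matrix.isUnit_iff_isUnit_det _).1 (g : GL ν F).isUnit
    rw [Matrix.det_eq_sign_charpoly_coeff] at hd
    exact hd.ne_zero (mul_eq_zero_of_right _ h0)

/-- From one element of order `r` in dimension `|H|`, an element for each orbit. -/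
theorem exists_block (hQ : (QuadraticMap.polarBilin Q).Nondegenerate)
    (H : Subgroup (ZMod r)ˣ) (hH : cardUnit F ∈ H)
    (hHeq : H = Subgroup.closure ({cardUnit F, -1} : Set (ZMod r)ˣ))
    (hdim : Fintype.card ν = Nat.card H) (hdvd : r ∣ Nat.card ↥(ogrp Q))
    (τ : (ZMod r)ˣ ⧸ H) :
    ∃ g : ↥(ogrp Q), g ^ r = 1 ∧ (g : GL ν F).1.charpoly = orbitPoly F H hH τ := by
  classical
  letI := Fintype.ofFinite ((ZMod r)ˣ ⧸ H)
  obtain ⟨g₀, hg₀⟩ := exists_prime_orderOf_dvd_card' r hdvd
  have hpow : ∀ k : ℕ, (g₀ ^ k) ^ r = 1 := fun k => by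
    rw [← pow_mul, mul_comm, pow_mul, ← hg₀, pow_orderOf_eq_one, one_pow]
  have hform : ∀ k : ℕ, ∃ a₀ a, ((g₀ ^ k : ↥(ogrp Q)) : GL ν F).1.charpoly =
      classPoly F H hH a₀ a ∧ a₀ + Nat.card H * total H a = Nat.card H := fun k => by
    have hinv := invariant_isometry (r := r) hQ (g₀ ^ k)
    rw [← hHeq] at hinv
    obtain ⟨a₀, a, ha⟩ := exists_eq_classPoly F H hH (Matrix.charpoly_monic _) hinv
      (charpoly_dvd_of_pow_eq_one (g := ((g₀ ^ k : ↥(ogrp Q)) : GL ν F))
        (by rw [← SubmonoidClass.coe_pow, hpow, OneMemClass.coe_one]))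
    refine ⟨a₀, a, ha, ?_⟩
    rw [← natDegree_classPoly F H hH a₀ a, ← ha, Matrix.charpoly_natDegree_eq_dim, hdim]
  -- some nontrivial root
  obtain ⟨a₀, a, ha, -⟩ := hform 1
  rw [pow_one] at ha
  obtain ⟨τ₀, hτ₀⟩ : ∃ τ₀, a τ₀ ≠ 0 := by
    by_contra hall
    push Not at hall
    obtain rfl : a = 0 := funext hall
    refine hr.out.one_lt.ne' (hg₀.symm.trans ?_)
    have hdeg := natDegree_classPoly F H hH a₀ 0
    rw [← ha, Matrix.charpoly_natDegree_eq_dim] at hdeg
    obtain ⟨p, hpp, hcp, hpr⟩ := coprime_char (F := F) hr0.out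
    haveI := hcp
    haveI : Fact p.Prime := ⟨hpp⟩
    have hc : IsConj (g₀ : GL ν F) 1 := CharpolySS.isConj_GL_of_charpoly_eq (p := p) _ _
      (hpr.coprime_dvd_left (orderOf_dvd_of_pow_eq_one (by
        rw [← SubmonoidClass.coe_pow, ← pow_one g₀, hpow, OneMemClass.coe_one])))
      (by simp) (by
        rw [ha, Units.val_one, Matrix.charpoly_one, classPoly_zero, hdeg]
        simp [total])
    rw [orderOf_eq_one_iff]
    exact Subtype.ext (isConj_one_left.1 hc)
  obtain ⟨x₀, rfl⟩ := QuotientGroup.mk_surjective τ₀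
  obtain ⟨x, rfl⟩ := QuotientGroup.mk_surjective τ
  set k := (((x * x₀⁻¹ : (ZMod r)ˣ)) : ZMod r).val
  obtain ⟨b₀, b, hb, hbd⟩ := hform k
  set A := (g₀ : GL ν F).1.map (algebraMap F (Cl F))
  have hroot : omg F r (x₀ : ZMod r) ∈ spectrum (Cl F) A := by
    rw [Matrix.mem_spectrum_iff_isRoot_charpoly, Matrix.charpoly_map, ha]
    exact ((rootMultiplicity_pos (((monic_classPoly F H hH a₀ a).map _).ne_zero)).1
      (by rw [count_unit_classPoly]; exact Nat.pos_of_ne_zero hτ₀))
  have hroot2 : omg F r (x : ZMod r) ∈ spectrum (Cl F) (A ^ k) := by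
    have := spectrum.pow_mem_pow A k hroot
    rwa [omg_pow, ZMod.natCast_zmod_val, ← Units.val_mul, mul_comm x, mul_inv_cancel_left] at this
  have hbx : 0 < b (QuotientGroup.mk x) := by
    rw [Matrix.mem_spectrum_iff_isRoot_charpoly, ← Matrix.map_pow, Matrix.charpoly_map,
      ← Units.val_pow_eq_pow_val, ← SubmonoidClass.coe_pow, hb] at hroot2
    rw [← count_unit_classPoly F H hH b₀ b x]
    exact (rootMultiplicity_pos ((monic_classPoly F H hH b₀ b).map _).ne_zero).2 hroot2
  have hle : b (QuotientGroup.mk x) ≤ total H b :=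
    Finset.single_le_sum (fun τ _ => Nat.zero_le (b τ)) (Finset.mem_univ _)
  have hpos : 0 < Nat.card H := Nat.card_pos
  have htot : total H b = 1 := by
    have : Nat.card H * total H b ≤ Nat.card H * 1 := by omega
    have := Nat.le_of_mul_le_mul_left this hpos
    omega
  have hb₀ : b₀ = 0 := by rw [htot] at hbd; omega
  refine ⟨g₀ ^ k, hpow k, ?_⟩
  rw [hb, hb₀, classPoly, pow_zero, one_mul]
  have hb1 : b (QuotientGroup.mk x) = 1 := by omega
  rw [Finset.prod_eq_single (QuotientGroup.mk x : (ZMod r)ˣ ⧸ H) ?_ (by simp), hb1, pow_one]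
  intro τ' _ hne
  have h2 := Finset.sum_le_sum_of_subset (f := b)
    (Finset.subset_univ ({τ', QuotientGroup.mk x} : Finset ((ZMod r)ˣ ⧸ H)))
  rw [Finset.sum_pair hne, hb1] at h2
  have h3 : (∑ y, b y) = 1 := htot
  rw [show b τ' = 0 by omega, pow_zero]

omit hr hr0 [Fintype F] in
/-- Isometries acting blockwise on an embedded orthogonal sum. -/
theorem exists_glue (hQ : (QuadraticMap.polarBilin Q).Nondegenerate) {κ : Type} {o : Type*} [Fintype κ]
    [DecidableEq κ] [Fintype o] [DecidableEq o] (Qe : QuadraticForm F (κ → F))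
    (hQe : (QuadraticMap.polarBilin Qe).Nondegenerate) (A : o → ↥(ogrp Qe))
    (hrne : r ≠ 0) (hA : ∀ l, A l ^ r = 1) (E : (κ × o → F) →ₗ[F] (ν → F))
    (hE : ∀ v, Q (E v) = ∑ l, Qe fun i => v (i, l)) :
    ∃ g : ↥(ogrp Q), g ^ r = 1 ∧ (g : GL ν F).1.charpoly =
      (X - 1) ^ (Fintype.card ν - Fintype.card κ * Fintype.card o) *
        ∏ l, (A l : GL κ F).1.charpoly := by
  classical
  set B : LinearMap.BilinForm F (ν → F) := QuadraticMap.polarBilin Q
  have hpol : ∀ u v, B (E u) (E v) =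
      ∑ l, QuadraticMap.polar (⇑Qe) (fun i => u (i, l)) (fun i => v (i, l)) := fun u v => by
    show QuadraticMap.polar (⇑Q) (E u) (E v) = _
    simp only [QuadraticMap.polar, ← map_add, hE, ← Finset.sum_sub_distrib]
    rfl
  have hsep : ∀ u, (∀ v, B (E u) (E v) = 0) → u = 0 := fun u hu => funext fun x => by
    have : (fun i => u (i, x.2)) = 0 := hQe.1 _ fun y => by
      have h := hu fun z => if z.2 = x.2 then y z.1 else 0
      rw [hpol, Finset.sum_eq_single x.2] at h
      · simp only [if_pos] at h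
        exact h
      · intro l _ hl
        simp only [if_neg hl]
        exact QuadraticMap.polar_zero_right ..
      · simp
    exact congrFun this x.1
  have hinj : Function.Injective E := by
    rw [← LinearMap.ker_eq_bot, LinearMap.ker_eq_bot']
    exact fun u hu => hsep u fun v => by rw [hu, map_zero, LinearMap.zero_apply]
  set U := B.orthogonal (LinearMap.range E)
  have hrefl : B.IsRefl := fun u v h => by
    show QuadraticMap.polar (⇑Q) v u = 0
    rw [QuadraticMap.polar_comm]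
    exact h
  have hcompl : IsCompl (LinearMap.range E) U := by
    refine (LinearMap.BilinForm.isCompl_orthogonal_iff_disjoint hrefl).2 ?_
    rw [Submodule.disjoint_def]
    rintro _ ⟨u, rfl⟩ hu
    rw [hsep u fun v => hrefl _ _ (hu _ ⟨v, rfl⟩), map_zero]
  let Φ : ((κ × o → F) × U) ≃ₗ[F] (ν → F) :=
    ((LinearEquiv.ofInjective E hinj).prodCongr (LinearEquiv.refl F U)).trans
      (Submodule.prodEquivOfIsCompl _ _ hcompl)
  have hΦ : ∀ x, Φ x = E x.1 + x.2 := fun x => rfl
  have hperp : ∀ (v : κ × o → F) (u : U), QuadraticMap.polar (⇑Q) (E v) u = 0 :=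
    fun v u => u.2 _ ⟨v, rfl⟩
  let M := blockDiagonal fun l => (A l : GL κ F).1
  have hMv : ∀ v l, (fun i => (M *ᵥ v) (i, l)) = (A l : GL κ F).1 *ᵥ fun i => v (i, l) := by
    intro v l
    funext i
    simp [M, Matrix.mulVec, dotProduct, blockDiagonal_apply, Fintype.sum_prod_type]
  let T : Module.End F (ν → F) := Φ.conj ((Matrix.toLin' M).prodMap LinearMap.id)
  have hTapp : ∀ x, T (Φ x) = Φ (M *ᵥ x.1, x.2) := fun x => by
    simp [T, LinearEquiv.conj_apply]
  have hTQ : ∀ z, Q (T z) = Q z := fun z => by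
    obtain ⟨x, rfl⟩ := Φ.surjective z
    rw [hTapp, hΦ, hΦ, QuadraticMap.map_add (⇑Q), QuadraticMap.map_add (⇑Q), hE, hE, hperp, hperp]
    congr 2
    exact Finset.sum_congr rfl fun l _ => by rw [hMv]; exact (A l).2 _ 0
  have hMr : M ^ r = 1 := by
    rw [← blockDiagonal_pow, show (fun l => (A l : GL κ F).1) ^ r = 1 from funext fun l => by
      show (A l : GL κ F).1 ^ r = 1
      rw [← Units.val_pow_eq_pow_val, ← SubmonoidClass.coe_pow, hA, OneMemClass.coe_one,
        Units.val_one], blockDiagonal_one]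
  have hTr : T ^ r = 1 := by
    refine LinearMap.ext fun z => ?_
    obtain ⟨x, rfl⟩ := Φ.surjective z
    have : ∀ k : ℕ, (T ^ k) (Φ x) = Φ ((M ^ k) *ᵥ x.1, x.2) := fun k => by
      induction k with
      | zero => simp
      | succ k ih => rw [pow_succ', Module.End.mul_apply, ih, hTapp, pow_succ', mulVec_mulVec]
    rw [this, hMr, one_mulVec]
    rfl
  set G := LinearMap.toMatrixAlgEquiv' T with hG
  have hGr : G ^ r = 1 := by rw [hG, ← map_pow, hTr, map_one]
  let gu : GL ν F := Units.ofPowEqOne G r hGr hrne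
  have hmem : gu ∈ ogrp Q := fun v _ => by
    show Q (G *ᵥ v) = Q v
    rw [← Matrix.toLinAlgEquiv'_apply, hG, Matrix.toLinAlgEquiv'_toMatrixAlgEquiv', hTQ]
  refine ⟨⟨gu, hmem⟩, Subtype.ext (Units.ext (by simpa [gu] using hGr)), ?_⟩
  show G.charpoly = _
  have hd : Module.finrank F U = Fintype.card ν - Fintype.card κ * Fintype.card o := by
    have h := Φ.finrank_eq
    rw [Module.finrank_prod, Module.finrank_pi, Module.finrank_pi, Fintype.card_prod] at h
    omega
  have hGc : G.charpoly = T.charpoly := by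
    rw [← Matrix.charpoly_toLin' G]
    congr 1
    exact Matrix.toLinAlgEquiv'_toMatrixAlgEquiv' T
  rw [hGc, LinearEquiv.charpoly_conj, LinearMap.charpoly_prodMap, Matrix.charpoly_toLin',
    charpoly_blockDiagonal, ← Module.End.one_eq_id, LinearMap.charpoly_one, hd, mul_comm]

end isometry

end CfsgLib.RootClasses
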