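import Cfsg.Agent.RootClasses.Orth
import Cfsg.Agent.RootClasses.Embed
import Mathlib

/-!
# Counting the classes of elements of order `r` in orthogonal groups
-/

set_option autoImplicit false

namespace CfsgLib.RootClasses

open Polynomial Matrix

variable {F : Type*} [Field F] [Fintype F] {r : ℕ} [hr : Fact r.Prime] [hr0 : NeZero (r : F)]

/-- The subgroup generated by the order of the field and `-1`. -/
noncomputable abbrev hSub (F : Type*) [Field F] [Fintype F] (r : ℕ) [Fact r.Prime] [NeZero (r : F)] :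
    Subgroup (ZMod r)ˣ :=
  Subgroup.closure ({cardUnit F, -1} : Set (ZMod r)ˣ)

theorem cardUnit_mem : cardUnit F ∈ hSub F r := Subgroup.subset_closure (by simp)

/-- The multiplicative order of `q` modulo `r`. -/
noncomputable abbrev ordq (F : Type*) [Fintype F] (r : ℕ) : ℕ := orderOf ((Fintype.card F : ℕ) : ZMod r)

theorem orderOf_cardUnit : orderOf (cardUnit F : (ZMod r)ˣ) = ordq F r := by
  rw [← orderOf_units, coe_cardUnit]

theorem ordq_pos : 0 < ordq F r := by
  rw [← orderOf_cardUnit]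
  exact orderOf_pos _

theorem card_hSub (hr2 : r ≠ 2) :
    Nat.card (hSub F r) = if Odd (ordq F r) then 2 * ordq F r else ordq F r := by
  rw [card_closure_pair hr2, orderOf_cardUnit]

/-- Half the size of a block. -/
noncomputable def half (F : Type*) [Fintype F] (r : ℕ) : ℕ :=
  if Odd (ordq F r) then ordq F r else ordq F r / 2

theorem card_hSub_eq_half (hr2 : r ≠ 2) : Nat.card (hSub F r) = half F r + half F r := by
  rw [card_hSub hr2, half]
  split_ifs with h
  · omega
  · rw [Nat.not_odd_iff_even, Nat.even_iff] at h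
    omega

theorem half_pos (hr2 : r ≠ 2) : 0 < half F r := by
  have := card_hSub_eq_half (F := F) hr2
  have h0 : 0 < Nat.card (hSub F r) := Nat.card_pos
  omega

/-- The sign of a block: `q ^ half = ±1`. -/
theorem pow_half (hr2 : r ≠ 2) :
    ((Fintype.card F : ℕ) : ZMod r) ^ half F r = if Odd (ordq F r) then 1 else -1 := by
  rw [half]
  split_ifs with h
  · exact pow_orderOf_eq_one _
  · rw [Nat.not_odd_iff_even, Nat.even_iff] at h
    have hpos := ordq_pos (F := F) (r := r)
    have hsq : (((Fintype.card F : ℕ) : ZMod r) ^ (ordq F r / 2)) ^ 2 = 1 := by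
      rw [← pow_mul, show ordq F r / 2 * 2 = ordq F r by omega]
      exact pow_orderOf_eq_one _
    rcases sq_eq_one_iff.1 hsq with h1 | h1
    · have h2 := Nat.le_of_dvd (by omega) (orderOf_dvd_of_pow_eq_one h1)
      change ordq F r ≤ _ at h2
      omega
    · exact h1

/-- The full tuples have `q ^ m` equal to a sign given by the parity of their total. -/
theorem pow_of_full (hr2 : r ≠ 2) {m k : ℕ} (h : Nat.card (hSub F r) * k = m + m) :
    ((Fintype.card F : ℕ) : ZMod r) ^ m = if Odd (ordq F r) then 1 else (-1) ^ k := by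
  have hm : m = half F r * k := by
    rw [card_hSub_eq_half hr2, Nat.add_mul] at h
    omega
  rw [hm, pow_mul, pow_half hr2]
  split_ifs <;> simp

theorem pow_card_eq_one_or (hr2 : r ≠ 2) {q : ℕ} (hF : Fintype.card F = q) :
    (Odd (ordq F r) → r ∣ q ^ half F r - 1) ∧ (¬ Odd (ordq F r) → r ∣ q ^ half F r + 1) := by
  subst hF
  constructor <;> intro h
  · rw [← ZMod.natCast_eq_zero_iff, Nat.cast_sub (Nat.one_le_pow _ _ Fintype.card_pos), Nat.cast_pow,
      pow_half hr2, if_pos h, Nat.cast_one, sub_self]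
  · rw [← ZMod.natCast_eq_zero_iff, Nat.cast_add, Nat.cast_pow, pow_half hr2, if_neg h, Nat.cast_one,
      neg_add_cancel]

section generic

variable {ν : Type} [Fintype ν] [DecidableEq ν] {Q : QuadraticForm F (ν → F)}

/-- A class polynomial realised on copies of a block embedded into the space. -/
theorem exists_isometry_classPoly (hr2 : r ≠ 2) (hQ : (QuadraticMap.polarBilin Q).Nondegenerate)
    {κ : Type} [Fintype κ] [DecidableEq κ] (Qe : QuadraticForm F (κ → F))
    (hQe : (QuadraticMap.polarBilin Qe).Nondegenerate) (hκ : Fintype.card κ = Nat.card (hSub F r))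
    (hdvd : r ∣ Nat.card ↥(ogrp Qe)) (a : (ZMod r)ˣ ⧸ hSub F r → ℕ)
    (hemb : ∀ (o : Type) [Fintype o], Fintype.card o = total (hSub F r) a →
      ∃ E : (κ × o → F) →ₗ[F] (ν → F), ∀ v, Q (E v) = ∑ l, Qe fun i => v (i, l)) :
    ∃ g : ↥(ogrp Q), g ^ r = 1 ∧ (g : GL ν F).1.charpoly =
      classPoly F (hSub F r) cardUnit_mem (Fintype.card ν - Nat.card (hSub F r) * total (hSub F r) a) a := by
  classical
  letI := Fintype.ofFinite ((ZMod r)ˣ ⧸ hSub F r)
  choose A hA hAc using exists_block (r := r) hQe (hSub F r) cardUnit_mem rfl hκ hdvd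
  let o := Σ τ : (ZMod r)ˣ ⧸ hSub F r, Fin (a τ)
  have ho : Fintype.card o = total (hSub F r) a := by
    simp only [o, Fintype.card_sigma, Fintype.card_fin]
    rfl
  obtain ⟨E, hE⟩ := hemb o ho
  obtain ⟨g, hg, hgc⟩ := exists_glue hQ Qe hQe (fun l : o => A l.1) hr.out.ne_zero (fun l => hA l.1) E hE
  refine ⟨g, hg, ?_⟩
  rw [hgc, hκ, ho, classPoly]
  congr 1
  rw [Fintype.prod_sigma]
  refine Finset.prod_congr rfl fun τ _ => ?_
  rw [Finset.prod_congr rfl fun i _ => hAc τ, Finset.prod_const, Finset.card_univ, Fintype.card_fin]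

/-- An element without eigenvalue one moves every nonzero vector. -/
theorem dvd_card_value {g : ↥(ogrp Q)} (hg : g ^ r = 1) {a : (ZMod r)ˣ ⧸ hSub F r → ℕ}
    (hc : (g : GL ν F).1.charpoly = classPoly F (hSub F r) cardUnit_mem 0 a) :
    r ∣ Nat.card {v : ν → F // Q v = 1} := by
  classical
  haveI := Fintype.ofFinite {v : ν → F // Q v = 1}
  rw [Nat.card_eq_fintype_card]
  by_contra hnd
  let σ : Equiv.Perm {v : ν → F // Q v = 1} :=
    (Matrix.toLinearEquiv' (g : GL ν F).1 (g : GL ν F).isUnit.invertible).toEquiv.subtypeEquiv fun v => by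
      show Q v = 1 ↔ Q ((g : GL ν F).1 *ᵥ v) = 1
      rw [show Q ((g : GL ν F).1 *ᵥ v) = Q v from g.2 v 0]
  have hσ : ∀ v, ((σ v : {v : ν → F // Q v = 1}) : ν → F) = (g : GL ν F).1 *ᵥ (v : ν → F) := fun v => rfl
  have hpow : ∀ k v, (((σ ^ k) v : {v : ν → F // Q v = 1}) : ν → F) =
      ((g : GL ν F).1 ^ k) *ᵥ (v : ν → F) := fun k => by
    induction k with
    | zero => simp
    | succ k ih => intro v; rw [pow_succ', Equiv.Perm.mul_apply, hσ, ih, pow_succ', mulVec_mulVec]
  obtain ⟨v, hv⟩ := Equiv.Perm.exists_fixed_point_of_prime (n := 1) hnd (σ := σ) (by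
    rw [pow_one]
    refine Equiv.ext fun v => Subtype.ext ?_
    rw [hpow, ← Units.val_pow_eq_pow_val, ← SubmonoidClass.coe_pow, hg]
    simp)
  have hfix : (g : GL ν F).1 *ᵥ (v : ν → F) = (v : ν → F) := by rw [← hσ, hv]
  have hv0 : (v : ν → F) ≠ 0 := fun h => by
    have := v.2
    rw [h, QuadraticMap.map_zero] at this
    exact zero_ne_one this
  have hroot : (g : GL ν F).1.charpoly.IsRoot 1 := by
    rw [IsRoot.def, Matrix.eval_charpoly, ← Matrix.exists_mulVec_eq_zero_iff]
    exact ⟨v, hv0, by rw [map_one, Matrix.sub_mulVec, one_mulVec, hfix, sub_self]⟩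
  have h0 := count_one_classPoly F (hSub F r) cardUnit_mem 0 a
  rw [omg_zero, ← hc] at h0
  have hroot2 := hroot.map (f := algebraMap F (Cl F))
  rw [map_one] at hroot2
  exact absurd h0 ((rootMultiplicity_pos ((Matrix.charpoly_monic _).map _).ne_zero).2 hroot2).ne'

theorem card_orth_classes (hr2 : r ≠ 2) (hQ : (QuadraticMap.polarBilin Q).Nondegenerate) (P : Prop)
    [Decidable P] (hN : P ∨ 0 < Fintype.card ν)
    (hfull : ∀ g : ↥(ogrp Q), g ^ r = 1 → ∀ a,
      (g : GL ν F).1.charpoly = classPoly F (hSub F r) cardUnit_mem 0 a →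
      Nat.card (hSub F r) * total (hSub F r) a = Fintype.card ν → P)
    {κ : Type} [Fintype κ] [DecidableEq κ] (Qe : QuadraticForm F (κ → F))
    (hQe : (QuadraticMap.polarBilin Qe).Nondegenerate) (hκ : Fintype.card κ = Nat.card (hSub F r))
    (hdvd : r ∣ Nat.card ↥(ogrp Qe))
    (hemb : ∀ (o : Type) [Fintype o], Nat.card (hSub F r) * Fintype.card o ≤ Fintype.card ν →
      (Nat.card (hSub F r) * Fintype.card o = Fintype.card ν → P) →
      ∃ E : (κ × o → F) →ₗ[F] (ν → F), ∀ v, Q (E v) = ∑ l, Qe fun i => v (i, l))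
    {t : ℕ} (ht : t * Nat.card (hSub F r) = r - 1) :
    Nat.card {C : ConjClasses ↥(ogrp Q) // ∃ g : ↥(ogrp Q), ConjClasses.mk g = C ∧ orderOf g = r} =
      (Fintype.card ν / Nat.card (hSub F r) + t).choose t - 1 -
        (if Nat.card (hSub F r) ∣ Fintype.card ν ∧ ¬P then
          (Fintype.card ν / Nat.card (hSub F r) + t - 1).choose (t - 1) else 0) := by
  rw [card_classes (hSub F r) cardUnit_mem (ogrp Q).subtype
    (fun g h hg hh hc => isConj_isometry_of_charpoly hr0.out hr2 hQ g h hg hh hc)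
    (fun g _ => invariant_isometry hQ g)
    (fun a => Nat.card (hSub F r) * total (hSub F r) a = Fintype.card ν → P)
    (fun g hg a hc hle he => hfull g hg a (by rwa [he, Nat.sub_self] at hc) he)
    (fun a hle _ hok => exists_isometry_classPoly hr2 hQ Qe hQe hκ hdvd a fun o _ ho =>
      hemb o (ho ▸ hle) (ho ▸ hok))]
  exact card_mult (hSub F r) rfl ht P hN

end generic

theorem dvd_card_plus (hr2 : r ≠ 2) (ho : Odd (ordq F r)) :
    r ∣ Nat.card ↥(ogrp (StdForms.plusQ (half F r) F)) := by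
  show r ∣ Nat.card ↥(Cfsg.isometryGroup F ⇑(StdForms.plusQ (half F r) F))
  rw [StdForms.coe_plusQ, Forms4.card_isometryGroup_quadFormPlus rfl _ (half_pos hr2)]
  exact Dvd.dvd.mul_right (Dvd.dvd.mul_left ((pow_card_eq_one_or hr2 rfl).1 ho) _) _

theorem dvd_card_minus (hr2 : r ≠ 2) (ho : ¬ Odd (ordq F r)) {a c : F} (hac : AnisoBin a c) :
    r ∣ Nat.card ↥(ogrp (StdForms.minusQ (half F r - 1) F a c)) := by
  show r ∣ Nat.card ↥(Cfsg.isometryGroup F ⇑(StdForms.minusQ (half F r - 1) F a c))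
  rw [StdForms.coe_minusQ, Forms4.card_isometryGroup_quadFormMinus rfl _ (half_pos hr2) a c hac]
  exact Dvd.dvd.mul_right (Dvd.dvd.mul_left ((pow_card_eq_one_or hr2 rfl).2 ho) _) _

theorem card_minusIndex (hr2 : r ≠ 2) :
    Fintype.card ((Fin (half F r - 1) ⊕ Fin (half F r - 1)) ⊕ Fin 2) = Nat.card (hSub F r) := by
  have := half_pos (F := F) hr2
  simp only [Fintype.card_sum, Fintype.card_fin, card_hSub_eq_half hr2]
  omega

theorem card_plusIndex (hr2 : r ≠ 2) :
    Fintype.card (Fin (half F r) ⊕ Fin (half F r)) = Nat.card (hSub F r) := by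
  simp only [Fintype.card_sum, Fintype.card_fin, card_hSub_eq_half hr2]

/-- The tuples number the cosets. -/
theorem exists_index (hr2 : r ≠ 2) {i t : ℕ} (hi : i = ordq F r) (ht : t * i = r - 1) :
    ∃ t', t' * Nat.card (hSub F r) = r - 1 ∧ (if Odd i then t = 2 * t' else t = t') := by
  have h := card_quotient_mul_card (hSub F r)
  refine ⟨_, h, ?_⟩
  rw [card_hSub hr2, ← hi, ← ht] at h
  have hi0 : 0 < i := hi ▸ ordq_pos
  split_ifs at h ⊢ with ho
  · exact Nat.eq_of_mul_eq_mul_right hi0 (show t * i = _ * i by rw [← h]; ring)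
  · exact Nat.eq_of_mul_eq_mul_right hi0 h.symm

end CfsgLib.RootClasses
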