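import Cfsg.Agent.CharpolySS.Matrix
import Mathlib

/-!
# Classes of elements of prime order `r` modulo scalars, `r` dividing the order of the scalars

Elements either lift to `g ^ r = 1`, classified by the multiplicities of the eigenvalues up to rotation, or to
`g ^ r = c` with `c` not an `r`-th power, one class for each non-trivial coset of `r`-th powers.
-/

set_option autoImplicit false

namespace CfsgLib.RootClasses

open Polynomial Matrix

section tuples

variable (r n : ℕ)

/-- Tuples of multiplicities of a non-scalar element. -/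
abbrev MultTup [NeZero r] : Type := {a : ZMod r → ℕ // (∀ j, a j < n) ∧ ∑ j, a j = n}

variable {r n}

/-- Rotation of the tuples. -/
instance [NeZero r] : MulAction (Multiplicative (ZMod r)) (MultTup r n) where
  smul k a := ⟨fun j => a.1 (j - k.toAdd), fun j => a.2.1 _,
    (Equiv.sum_comp (Equiv.subRight k.toAdd) a.1).trans a.2.2⟩
  one_smul a := Subtype.ext (funext fun j => by show a.1 (j - 0) = a.1 j; rw [sub_zero])
  mul_smul k l a := Subtype.ext (funext fun j => by
    show a.1 (j - (k.toAdd + l.toAdd)) = a.1 (j - k.toAdd - l.toAdd)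
    rw [sub_add_eq_sub_sub])

theorem multTup_smul_apply [NeZero r] (k : Multiplicative (ZMod r)) (a : MultTup r n) (j : ZMod r) :
    (k • a).1 j = a.1 (j - k.toAdd) := rfl

variable [hr : Fact r.Prime]

theorem finite_multTup : Finite (MultTup r n) :=
  Finite.of_injective (fun a : MultTup r n => fun j => (⟨a.1 j, a.2.1 j⟩ : Fin n))
    fun a b h => Subtype.ext (funext fun j => congrArg Fin.val (congrFun h j))

theorem card_multTup (hn : 2 ≤ n) : Nat.card (MultTup r n) = (n + r - 1).choose (r - 1) - r := by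
  classical
  set S : Set (ZMod r → ℕ) := {a | ∑ j, a j = n}
  set W : Set (ZMod r → ℕ) := Set.range fun j : ZMod r => (Pi.single j n : ZMod r → ℕ)
  have hS : S.ncard = (n + r - 1).choose (r - 1) := by
    rw [← Nat.card_coe_set_eq, show Nat.card S = Nat.card {P : ZMod r → ℕ // ∑ i, P i = n} from rfl,
      Nat.card_congr (Sym.equivNatSumOfFintype (ZMod r) n).symm,
      Nat.card_eq_fintype_card, Sym.card_sym_eq_choose, ZMod.card, show r + n - 1 = n + (r - 1) by
        have := hr.out.two_le; omega, show n + r - 1 = n + (r - 1) by have := hr.out.two_le; omega,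
      Nat.choose_symm_add]
  have hW : W.ncard = r := by
    rw [Set.ncard_range_of_injective, Nat.card_eq_fintype_card, ZMod.card]
    intro i j h
    by_contra hij
    have := congrFun h i
    simp only [Pi.single_eq_same, Pi.single_eq_of_ne hij] at this
    omega
  have hWS : W ⊆ S := by
    rintro _ ⟨j, rfl⟩
    simp [S]
  have hSf : S.Finite := Set.finite_of_ncard_pos (by
    rw [hS]; exact Nat.choose_pos (by omega))
  rw [← hS]
  conv_rhs => arg 2; rw [← hW]
  rw [← Set.ncard_sdiff hWS (Set.finite_range _), ← Nat.card_coe_set_eq]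
  refine Nat.card_congr (Equiv.subtypeEquivRight fun a => ?_)
  show _ ↔ ∑ j, a j = n ∧ a ∉ W
  refine ⟨fun h => ⟨h.2, ?_⟩, fun h => ⟨fun j => ?_, h.1⟩⟩
  · rintro ⟨j, rfl⟩
    have := h.1 j
    simp at this
  · obtain ⟨hs, hw⟩ := h
    by_contra hge
    rw [← Finset.add_sum_erase _ _ (Finset.mem_univ j)] at hs
    refine hw ⟨j, funext fun i => ?_⟩
    rcases eq_or_ne i j with rfl | hij
    · simp; omega
    · show (Pi.single j n : ZMod r → ℕ) i = a i
      rw [Pi.single_eq_of_ne hij]
      have h0 : ∑ i ∈ Finset.univ.erase j, a i = 0 := by omega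
      exact ((Finset.sum_eq_zero_iff.1 h0) i (Finset.mem_erase.2 ⟨hij, Finset.mem_univ _⟩)).symm

/-- The rotation orbits. -/
abbrev MultOrbits (r n : ℕ) [NeZero r] : Type :=
  Quotient (MulAction.orbitRel (Multiplicative (ZMod r)) (MultTup r n))

theorem card_fixed (hn : 2 ≤ n) {k : Multiplicative (ZMod r)} (hk : k ≠ 1) :
    Nat.card (MulAction.fixedBy (MultTup r n) k) = if r ∣ n then 1 else 0 := by
  classical
  have hr2 := hr.out.two_le
  have hconst : ∀ a ∈ MulAction.fixedBy (MultTup r n) k, ∀ j, a.1 j = a.1 0 := by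
    intro a ha j
    have hstep : ∀ i, a.1 (i - k.toAdd) = a.1 i := fun i =>
      congrFun (congrArg Subtype.val (MulAction.mem_fixedBy.1 ha)) i
    have hmul : ∀ (s : ℕ) i, a.1 (i - (s : ZMod r) * k.toAdd) = a.1 i := fun s => by
      induction s with
      | zero => simp
      | succ s ih =>
        intro i
        rw [Nat.cast_succ, add_mul, one_mul, ← sub_sub, hstep, ih]
    have hk0 : k.toAdd ≠ 0 := fun h => hk (Multiplicative.toAdd.injective h)
    have := hmul (-j * k.toAdd⁻¹).val 0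
    rw [ZMod.natCast_zmod_val, mul_assoc, inv_mul_cancel₀ hk0, mul_one, sub_neg_eq_add, zero_add] at this
    exact this
  split_ifs with hd
  · obtain ⟨m, hm⟩ := hd
    have hm0 : 0 < m := Nat.pos_of_ne_zero fun h => by rw [h, mul_zero] at hm; omega
    let a₀ : MultTup r n := ⟨fun _ => m, fun _ => by
      show m < n
      rw [hm]; exact lt_mul_of_one_lt_left hm0 hr2, by
      rw [Finset.sum_const, Finset.card_univ, ZMod.card, smul_eq_mul, hm]⟩
    rw [Nat.card_eq_one_iff_exists]
    refine ⟨⟨a₀, MulAction.mem_fixedBy.2 (Subtype.ext rfl)⟩, fun b => Subtype.ext (Subtype.ext (funext fun j => ?_))⟩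
    have hsum := b.1.2.2
    rw [Finset.sum_congr rfl fun i _ => hconst b.1 b.2 i, Finset.sum_const, Finset.card_univ, ZMod.card,
      smul_eq_mul] at hsum
    rw [hconst b.1 b.2 j]
    show b.1.1 0 = m
    exact Nat.eq_of_mul_eq_mul_left (by omega) (hsum.trans hm)
  · haveI : IsEmpty (MulAction.fixedBy (MultTup r n) k) := ⟨fun b => by
      have hsum := b.1.2.2
      rw [Finset.sum_congr rfl fun i _ => hconst b.1 b.2 i, Finset.sum_const, Finset.card_univ, ZMod.card,
        smul_eq_mul] at hsum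
      exact hd ⟨_, hsum.symm⟩⟩
    exact Nat.card_of_isEmpty

theorem card_multOrbits (hn : 2 ≤ n) :
    Nat.card (MultOrbits r n) + (r - 1) * (if r ∣ n then 1 else 0) =
      ((n + r - 1).choose (r - 1) - r - (if r ∣ n then 1 else 0)) / r +
        r * (if r ∣ n then 1 else 0) := by
  classical
  haveI := finite_multTup (r := r) (n := n)
  haveI := Fintype.ofFinite (MultTup r n)
  haveI := Fintype.ofFinite (MultOrbits r n)
  set f := if r ∣ n then 1 else 0 with hf
  have h := MulAction.sum_card_fixedBy_eq_card_orbits_mul_card_group (Multiplicative (ZMod r)) (MultTup r n)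
  simp only [← Nat.card_eq_fintype_card] at h
  have hr' : Nat.card (Multiplicative (ZMod r)) = r := by
    rw [Nat.card_congr Multiplicative.toAdd, Nat.card_eq_fintype_card, ZMod.card]
  rw [← Finset.add_sum_erase _ _ (Finset.mem_univ 1),
    Finset.sum_congr rfl fun k hk => card_fixed hn (Finset.ne_of_mem_erase hk), Finset.sum_const,
    Finset.card_erase_of_mem (Finset.mem_univ 1), Finset.card_univ, ← Nat.card_eq_fintype_card, hr',
    smul_eq_mul, ← hf, MulAction.fixedBy_one_eq_univ, Nat.card_congr (Equiv.Set.univ _),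
    card_multTup hn] at h
  set C := (n + r - 1).choose (r - 1) - r
  change C + (r - 1) * f = Nat.card (MultOrbits r n) * r at h
  set O := Nat.card (MultOrbits r n)
  obtain ⟨s, hs⟩ : ∃ s, r = s + 1 := ⟨r - 1, by have := hr.out.two_le; omega⟩
  rw [hs, Nat.add_sub_cancel] at h ⊢
  have h1 : C + (s + 1) * f = O * (s + 1) + f := by rw [← h]; ring
  rcases Nat.lt_or_ge O f with hlt | hge
  · have hf1 : f = 1 := by
      have : f ≤ 1 := by rw [hf]; split_ifs <;> omega
      omega
    rw [hf1, show O = 0 by omega] at h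
    have := hr.out.two_le
    omega
  · obtain ⟨O', hO'⟩ : ∃ O', O = O' + f := ⟨O - f, by omega⟩
    rw [hO'] at h1 ⊢
    have h2 : C = (s + 1) * O' + f := by
      have : C + (s + 1) * f = ((s + 1) * O' + f) + (s + 1) * f := by rw [h1]; ring
      omega
    rw [h2, Nat.add_sub_cancel, Nat.mul_div_cancel_left _ (by omega)]
    ring

end tuples

section classes

variable {K : Type*} [Field K] {ν : Type*} [Fintype ν] [DecidableEq ν]

/-- The characteristic polynomial of a scalar multiple. -/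
theorem charpoly_scalar_mul (x y : K) (hxy : x * y = 1) (M : Matrix ν ν K) :
    (scalar ν x * M).charpoly = C (x ^ Fintype.card ν) * M.charpoly.comp (C y * X) := by
  have h : (charmatrix M).map (Polynomial.compRingHom (C y * X)) = C y • charmatrix (scalar ν x * M) := by
    refine Matrix.ext fun i j => ?_
    rw [Matrix.map_apply, Matrix.smul_apply, smul_eq_mul]
    rcases eq_or_ne i j with rfl | hij
    · rw [charmatrix_apply_eq, charmatrix_apply_eq, coe_compRingHom_apply, sub_comp, X_comp, C_comp,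
        mul_sub, ← C_mul, Matrix.scalar_apply, Matrix.diagonal_mul, ← mul_assoc, mul_comm y x, hxy, one_mul]
    · rw [charmatrix_apply_ne _ _ _ hij, charmatrix_apply_ne _ _ _ hij, coe_compRingHom_apply, neg_comp,
        C_comp, Matrix.scalar_apply, Matrix.diagonal_mul, mul_neg, ← C_mul, ← mul_assoc, mul_comm y x, hxy,
        one_mul]
  have h2 := congrArg Matrix.det h
  rw [← RingHom.mapMatrix_apply, ← RingHom.map_det, det_smul] at h2
  rw [Matrix.charpoly, Matrix.charpoly, ← coe_compRingHom_apply, h2, ← mul_assoc, ← C_pow, ← C_mul,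
    ← mul_pow, hxy, one_pow, C_1, one_mul]

variable {r : ℕ} [hr : Fact r.Prime]

/-- The split polynomial of a tuple. -/
noncomputable def tupPoly (ζ : K) (a : ZMod r → ℕ) : K[X] := ∏ j : ZMod r, (X - C (ζ ^ j.val)) ^ a j

theorem natDegree_tupPoly (ζ : K) (a : ZMod r → ℕ) : (tupPoly ζ a).natDegree = ∑ j, a j := by
  rw [tupPoly, natDegree_prod_of_monic _ _ fun j _ => (monic_X_sub_C _).pow _]
  exact Finset.sum_congr rfl fun j _ => by rw [(monic_X_sub_C _).natDegree_pow, natDegree_X_sub_C, mul_one]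

theorem monic_tupPoly (ζ : K) (a : ZMod r → ℕ) : (tupPoly ζ a).Monic :=
  monic_prod_of_monic _ _ fun j _ => (monic_X_sub_C _).pow _

variable {ζ : K}

theorem pow_val_add (hζ : IsPrimitiveRoot ζ r) (i j : ZMod r) :
    ζ ^ (i + j).val = ζ ^ i.val * ζ ^ j.val := by
  rw [← pow_add, ZMod.val_add]
  exact (pow_eq_pow_mod _ hζ.pow_eq_one).symm

theorem pow_val_injective (hζ : IsPrimitiveRoot ζ r) : Function.Injective fun j : ZMod r => ζ ^ j.val :=
  fun i j h => ZMod.val_injective r (hζ.pow_inj (ZMod.val_lt i) (ZMod.val_lt j) h)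

theorem tupPoly_injective (hζ : IsPrimitiveRoot ζ r) : Function.Injective (tupPoly (r := r) ζ) := by
  classical
  intro a b h
  have key : ∀ (c : ZMod r → ℕ) k, (tupPoly ζ c).rootMultiplicity (ζ ^ k.val) = c k := by
    intro c k
    have hne : ∀ j ∈ (Finset.univ : Finset (ZMod r)), (X - C (ζ ^ j.val)) ^ c j ≠ 0 := fun j _ =>
      pow_ne_zero _ (X_sub_C_ne_zero _)
    rw [← count_roots, tupPoly, roots_prod _ _ (Finset.prod_ne_zero_iff.2 hne), Multiset.count_bind,
      ← Finset.sum_eq_multiset_sum, Finset.sum_eq_single k]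
    · rw [roots_pow, roots_X_sub_C, Multiset.count_nsmul, Multiset.count_singleton_self, mul_one]
    · intro j _ hjk
      rw [roots_pow, roots_X_sub_C, Multiset.count_nsmul, Multiset.count_singleton,
        if_neg (fun h => hjk (pow_val_injective hζ h.symm)), mul_zero]
    · simp
  exact funext fun k => by rw [← key a k, h, key b k]

theorem exists_eq_tupPoly (hζ : IsPrimitiveRoot ζ r) {P : K[X]} (hP : P.Monic) {k : ℕ}
    (hdvd : P ∣ (X ^ r - 1) ^ k) : ∃ a : ZMod r → ℕ, P = tupPoly ζ a := by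
  classical
  have hsplit : P.Splits := by
    refine Polynomial.Splits.of_dvd ((X_pow_sub_one_splits hζ).pow k) ?_ hdvd
    exact pow_ne_zero _ (X_pow_sub_C_ne_zero hr.out.pos 1)
  have hroots : ∀ x ∈ P.roots, ∃ j : ZMod r, ζ ^ j.val = x := by
    intro x hx
    have h := (isRoot_of_mem_roots hx).dvd hdvd
    rw [IsRoot.def, eval_pow, pow_eq_zero_iff'] at h
    have hx1 : x ^ r = 1 := by simpa [sub_eq_zero] using h.1
    obtain ⟨i, hi, rfl⟩ := hζ.eq_pow_of_pow_eq_one hx1
    exact ⟨(i : ZMod r), by rw [ZMod.val_natCast, Nat.mod_eq_of_lt hi]⟩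
  refine ⟨fun j => P.roots.count (ζ ^ j.val), ?_⟩
  conv_lhs => rw [hsplit.eq_prod_roots_of_monic hP, Finset.prod_multiset_map_count]
  rw [tupPoly, ← Finset.prod_image (f := fun x => (X - C x) ^ P.roots.count x)
    (fun i _ j _ h => pow_val_injective hζ h)]
  refine Finset.prod_subset (fun x hx => ?_) fun x _ hx => ?_
  · obtain ⟨j, rfl⟩ := hroots x (Multiset.mem_toFinset.1 hx)
    exact Finset.mem_image_of_mem _ (Finset.mem_univ _)
  · rw [Multiset.count_eq_zero.2 fun h => hx (Multiset.mem_toFinset.2 h), pow_zero]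

theorem tupPoly_single (ζ : K) (n : ℕ) (j : ZMod r) :
    tupPoly ζ (Pi.single j n) = (X - C (ζ ^ j.val)) ^ n := by
  rw [tupPoly, Finset.prod_eq_single j (fun i _ hij => by rw [Pi.single_eq_of_ne hij, pow_zero]) (by simp),
    Pi.single_eq_same]

/-- The polynomial of a rotated tuple. -/
theorem charpoly_root_mul (hζ : IsPrimitiveRoot ζ r) (k : ZMod r) {M : Matrix ν ν K} {a : ZMod r → ℕ}
    (hM : M.charpoly = tupPoly ζ a) :
    (scalar ν (ζ ^ k.val) * M).charpoly = tupPoly ζ fun j => a (j - k) := by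
  have hxy : ζ ^ k.val * ζ ^ (-k).val = 1 := by
    rw [← pow_val_add hζ, add_neg_cancel, ZMod.val_zero, pow_zero]
  have hn : ∑ j, a j = Fintype.card ν := by
    rw [← natDegree_tupPoly ζ a, ← hM, Matrix.charpoly_natDegree_eq_dim]
  rw [charpoly_scalar_mul _ _ hxy, hM, tupPoly, prod_comp, tupPoly,
    ← Equiv.sum_comp (Equiv.refl _) a] at *
  have hterm : ∀ j : ZMod r, ((X - C (ζ ^ j.val)) ^ a j).comp (C (ζ ^ (-k).val) * X) =
      C (ζ ^ (-k).val) ^ a j * (X - C (ζ ^ (j + k).val)) ^ a j := fun j => by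
    rw [pow_comp, sub_comp, X_comp, C_comp, ← mul_pow, mul_sub, ← C_mul]
    congr 3
    rw [← pow_val_add hζ]
    congr 2
    ring
  rw [Finset.prod_congr rfl fun j _ => hterm j, Finset.prod_mul_distrib, Finset.prod_pow_eq_pow_sum,
    ← mul_assoc, show ∑ j, a j = Fintype.card ν from hn, ← C_pow, ← C_mul, ← mul_pow, hxy, one_pow, C_1,
    one_mul]
  refine Fintype.prod_equiv (Equiv.addRight k) _ _ fun j => ?_
  simp [Equiv.coe_addRight]

/-- The characteristic polynomial of an element with `g ^ r = c`, `c` not an `r`-th power. -/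
theorem charpoly_of_pow_eq {M : Matrix ν ν K} {c : K} (hirr : Irreducible (X ^ r - C c))
    (hM : M ^ r = scalar ν c) :
    r ∣ Fintype.card ν ∧ M.charpoly = (X ^ r - C c) ^ (Fintype.card ν / r) := by
  have hd : M.charpoly ∣ (X ^ r - C c) ^ Fintype.card ν := by
    refine CharpolySS.charpoly_dvd_pow _ _ ?_
    rw [map_sub, map_pow, aeval_X, aeval_C, hM]
    exact sub_self _
  obtain ⟨i, -, hi⟩ := (dvd_prime_pow hirr.prime _).1 hd
  have he := eq_of_monic_of_associated M.charpoly_monic ((monic_X_pow_sub_C c hr.out.ne_zero).pow i) hi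
  have hdeg := Matrix.charpoly_natDegree_eq_dim M
  rw [he, natDegree_pow, natDegree_X_pow_sub_C] at hdeg
  refine ⟨⟨i, by rw [← hdeg]; ring⟩, ?_⟩
  rw [he, ← hdeg, Nat.mul_div_cancel _ hr.out.pos]

variable [Fintype K] {p : ℕ} [hp : Fact p.Prime] [CharP K p]

/-- A semisimple element whose polynomial divides a power of `X ^ r - c` has `r`-th power `c`. -/
theorem pow_eq_scalar_of_charpoly_dvd {g : GL ν K} (hg : (orderOf g).Coprime p) {c : Kˣ} {k : ℕ}
    (h : g.1.charpoly ∣ (X ^ r - C (c : K)) ^ k) : g.1 ^ r = scalar ν (c : K) := by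
  cases isEmpty_or_nonempty ν with
  | inl h' => exact Subsingleton.elim _ _
  | inr h' =>
  set z : GL ν K := Units.map (scalar ν).toMonoidHom c with hz
  have hzc : Commute z g := Units.ext (scalar_commute (c : K) (fun _ => Commute.all _ _) g.1).eq
  haveI : CharP (Matrix ν ν K) p := charP_of_injective_algebraMap (algebraMap K _).injective p
  have h1 : (g.1 ^ r - z.1) ^ k = 0 := by
    obtain ⟨d, hd⟩ := h
    have := congrArg (aeval g.1) hd
    rw [map_mul, Matrix.aeval_self_charpoly, zero_mul, map_pow, map_sub, map_pow, aeval_X, aeval_C] at this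
    exact this
  have hcz : (orderOf z).Coprime p := by
    have hd : orderOf z ∣ Fintype.card K - 1 :=
      orderOf_dvd_of_pow_eq_one (by
        classical rw [hz, ← map_pow, ← Fintype.card_units, pow_card_eq_one, map_one])
    refine Nat.Coprime.coprime_dvd_left hd ?_
    rw [Nat.coprime_comm, hp.out.coprime_iff_not_dvd]
    intro hdvd
    obtain ⟨m, -, hm⟩ := FiniteField.card K p
    have h2 := hp.out.one_lt
    have h3 : p ∣ Fintype.card K := hm ▸ dvd_pow_self p m.ne_zero
    have h4 : p ∣ Fintype.card K - (Fintype.card K - 1) := Nat.dvd_sub h3 hdvd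
    rw [Nat.sub_sub_self Fintype.card_pos] at h4
    exact h2.ne' (Nat.dvd_one.1 h4)
  have h2 : (g ^ r) ^ p ^ k = z ^ p ^ k := by
    apply Units.ext
    rw [Units.val_pow_eq_pow_val, Units.val_pow_eq_pow_val, Units.val_pow_eq_pow_val, ← sub_eq_zero,
      ← sub_pow_char_pow_of_commute]
    · exact pow_eq_zero_of_le (Nat.lt_pow_self hp.out.one_lt (n := k)).le h1
    · exact ((scalar_commute (c : K) (fun _ => Commute.all _ _) g.1).pow_right r).symm
  have hgr : (orderOf (g ^ r)).Coprime (p ^ k) := (hg.pow_right k).coprime_dvd_left (orderOf_pow_dvd r)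
  have hu : g ^ r * z⁻¹ = 1 := by
    have hcm : Commute (g ^ r) z⁻¹ := (hzc.symm.pow_left r).inv_right
    have hd1 : orderOf (g ^ r * z⁻¹) ∣ p ^ k := orderOf_dvd_of_pow_eq_one (by
      rw [hcm.mul_pow, h2, inv_pow, mul_inv_cancel])
    have hd2 : (orderOf (g ^ r * z⁻¹)).Coprime (p ^ k) :=
      Nat.Coprime.coprime_dvd_left hcm.orderOf_mul_dvd_mul_orderOf (by
        rw [orderOf_inv]; exact hgr.mul_left (hcz.pow_right k))
    rw [← orderOf_eq_one_iff]
    exact Nat.eq_one_of_dvd_coprimes hd2 (dvd_refl _) hd1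
  rw [← Units.val_pow_eq_pow_val, mul_inv_eq_one.1 hu, hz]
  rfl

/-- The count of the classes of elements of order `r` modulo scalars. -/
theorem card_projective {G : Type*} [Group G] {n : ℕ} (hn : 2 ≤ n) (ι : G →* GL (Fin n) K)
    (hι : Function.Injective ι) (S : Subgroup Kˣ) (sc : S →* G)
    (hsc : ∀ x : S, (ι (sc x)).1 = scalar (Fin n) ((x : Kˣ) : K))
    (hcenter : ∀ g, g ∈ Subgroup.center G ↔ g ∈ sc.range) (hrS : r ∣ Nat.card S)
    (hpow : ∀ c : S, (∃ x : K, x ^ r = ((c : Kˣ) : K)) → c ∈ (powMonoidHom r : S →* S).range)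
    (hrp : r ≠ p)
    (hconj : ∀ g h : G, (orderOf (ι g)).Coprime p → (orderOf (ι h)).Coprime p →
      (ι g).1.charpoly = (ι h).1.charpoly → IsConj g h)
    (hexist : ∀ χ : K[X], χ.Monic → χ.natDegree = n → χ.coeff 0 ≠ 0 →
      ((∃ (ζ : S) (a : ZMod r → ℕ), IsPrimitiveRoot ((ζ : Kˣ) : K) r ∧ χ = tupPoly ((ζ : Kˣ) : K) a) ∨
        ∃ (c : S) (k : ℕ), χ = (X ^ r - C ((c : Kˣ) : K)) ^ k) →
      ∃ g : G, (orderOf (ι g)).Coprime p ∧ (ι g).1.charpoly = χ) :
    Nat.card {C : ConjClasses (G ⧸ Subgroup.center G) //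
        ∃ g : G ⧸ Subgroup.center G, ConjClasses.mk g = C ∧ orderOf g = r} =
      ((n + r - 1).choose (r - 1) - r - (if r ∣ n then 1 else 0)) / r +
        r * (if r ∣ n then 1 else 0) := by
  classical
  have hr2 := hr.out.two_le
  haveI : Finite S := inferInstance
  haveI : IsCyclic S := inferInstance
  obtain ⟨ζS, hζS⟩ := exists_prime_orderOf_dvd_card' r hrS
  set ζ : K := ((ζS : Kˣ) : K) with hζdef
  have hζ : IsPrimitiveRoot ζ r := by
    have := (IsPrimitiveRoot.orderOf ζS).map_of_injective (f := (Units.coeHom K).comp S.subtype)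
      (Units.val_injective.comp Subtype.val_injective)
    rwa [hζS] at this
  -- the subgroup of `r`-th powers
  set R := (powMonoidHom r : S →* S).range with hR
  have hRidx : R.index = r := by rw [hR, IsCyclic.index_powMonoidHom_range, Nat.gcd_eq_right hrS]
  have hQ : Nat.card {x : S ⧸ R // x ≠ 1} = r - 1 := by
    rw [Subgroup.index] at hRidx
    haveI := Fintype.ofFinite (S ⧸ R)
    rw [Nat.card_eq_fintype_card, Fintype.card_subtype_compl, Fintype.card_subtype_eq, ← Nat.card_eq_fintype_card,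
      hRidx]
  -- semisimplicity
  have hcopc : (Nat.card S).Coprime p := by
    have hd : Nat.card S ∣ Nat.card Kˣ := Subgroup.card_subgroup_dvd_card S
    refine Nat.Coprime.coprime_dvd_left hd ?_
    rw [Nat.card_eq_fintype_card, Fintype.card_units, Nat.coprime_comm, hp.out.coprime_iff_not_dvd]
    intro hdvd
    obtain ⟨m, -, hm⟩ := FiniteField.card K p
    have h3 : p ∣ Fintype.card K := hm ▸ dvd_pow_self p m.ne_zero
    have h4 : p ∣ Fintype.card K - (Fintype.card K - 1) := Nat.dvd_sub h3 hdvd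
    rw [Nat.sub_sub_self Fintype.card_pos] at h4
    exact hp.out.one_lt.ne' (Nat.dvd_one.1 h4)
  have hss : ∀ g : G, ∀ x : S, g ^ r = sc x → (orderOf (ι g)).Coprime p := fun g x h => by
    refine Nat.Coprime.coprime_dvd_left (orderOf_dvd_of_pow_eq_one (n := r * Nat.card S) ?_)
      (((Nat.coprime_primes hr.out hp.out).2 hrp).mul_left hcopc)
    rw [← map_pow, pow_mul, h, ← map_pow, pow_card_eq_one', map_one, map_one]
  have hscinj : Function.Injective sc := fun x y h => by
    haveI : Nonempty (Fin n) := ⟨⟨0, by omega⟩⟩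
    have := congrArg (fun g => (ι g).1) h
    simp only [hsc] at this
    exact Subtype.ext (Units.ext (Matrix.scalar_inj.1 this))
  have hsccomm : ∀ (x : S) (g : G), Commute (sc x) g := fun x g =>
    (Subgroup.mem_center_iff.1 ((hcenter _).2 ⟨x, rfl⟩) g).symm
  -- normalised lifts
  have hlift : ∀ g : G, g ^ r ∈ Subgroup.center G → ∃ x : S, g ^ r = sc x := fun g h => by
    obtain ⟨x, hx⟩ := (hcenter _).1 h
    exact ⟨x, hx.symm⟩
  have hord : ∀ g : G, orderOf (QuotientGroup.mk g : G ⧸ Subgroup.center G) = r ↔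
      g ^ r ∈ Subgroup.center G ∧ g ∉ Subgroup.center G := fun g => by
    rw [← QuotientGroup.eq_one_iff, ← QuotientGroup.eq_one_iff]
    refine ⟨fun h => ⟨?_, fun h1 => ?_⟩, fun ⟨h1, h2⟩ => orderOf_eq_prime ?_ h2⟩
    · rw [QuotientGroup.mk_pow, ← h, pow_orderOf_eq_one]
    · rw [h1, orderOf_one] at h; omega
    · rwa [← QuotientGroup.mk_pow]
  have hcl : ∀ g h : G, (ConjClasses.mk (QuotientGroup.mk g : G ⧸ Subgroup.center G) =
      ConjClasses.mk (QuotientGroup.mk h)) ↔ ∃ x : S, IsConj g (sc x * h) := by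
    intro g h
    rw [ConjClasses.mk_eq_mk_iff_isConj, isConj_iff]
    constructor
    · rintro ⟨P, hP⟩
      obtain ⟨P, rfl⟩ := QuotientGroup.mk_surjective P
      rw [← QuotientGroup.mk_mul, ← QuotientGroup.mk_inv, ← QuotientGroup.mk_mul, QuotientGroup.eq] at hP
      obtain ⟨x, hx⟩ := (hcenter _).1 hP
      refine ⟨x⁻¹, isConj_iff.2 ⟨P, ?_⟩⟩
      rw [map_inv, eq_inv_mul_iff_mul_eq, (hsccomm x _).eq, hx, mul_inv_cancel_left]
    · rintro ⟨x, hx⟩
      obtain ⟨P, hP⟩ := isConj_iff.1 hx
      refine ⟨QuotientGroup.mk P, ?_⟩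
      rw [← QuotientGroup.mk_inv, ← QuotientGroup.mk_mul, ← QuotientGroup.mk_mul, hP, QuotientGroup.mk_mul,
        (QuotientGroup.eq_one_iff _).2 ((hcenter _).2 ⟨x, rfl⟩), one_mul]
  have hirr : ∀ c : S, c ∉ R → Irreducible (X ^ r - C ((c : Kˣ) : K)) := fun c hc =>
    X_pow_sub_C_irreducible_of_prime hr.out fun b hb => hc (hpow c ⟨b, hb⟩)
  -- representatives
  have hA : ∀ a : MultTup r n, ∃ g : G, g ^ r = 1 ∧ (ι g).1.charpoly = tupPoly ζ a.1 := fun a => by
    have h0 : (tupPoly ζ a.1).coeff 0 ≠ 0 := by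
      rw [tupPoly, coeff_zero_eq_eval_zero, eval_prod, Finset.prod_ne_zero_iff]
      intro j _
      simp [hζ.ne_zero hr.out.ne_zero]
    obtain ⟨g, hg, hgc⟩ := hexist _ (monic_tupPoly ζ a.1)
      (by rw [natDegree_tupPoly, a.2.2]) h0 (Or.inl ⟨ζS, a.1, hζ, rfl⟩)
    refine ⟨g, hι (Units.ext ?_), hgc⟩
    rw [map_pow, map_one, Units.val_pow_eq_pow_val, Units.val_one,
      pow_eq_scalar_of_charpoly_dvd hg (c := 1) (k := n) ?_, Units.val_one, map_one]
    rw [hgc, Units.val_one, C_1, tupPoly]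
    calc ∏ j : ZMod r, (X - C (ζ ^ j.val)) ^ a.1 j ∣ ∏ j : ZMod r, (X ^ r - 1) ^ a.1 j :=
          Finset.prod_dvd_prod_of_dvd _ _ fun j _ => pow_dvd_pow_of_dvd (dvd_iff_isRoot.2 (by
            simp only [IsRoot.def, eval_sub, eval_pow, eval_X, eval_one]
            rw [← pow_mul, mul_comm j.val, pow_mul, hζ.pow_eq_one, one_pow, sub_self])) _
      _ = (X ^ r - 1) ^ n := by rw [Finset.prod_pow_eq_pow_sum, a.2.2]
  choose gA hgA hgAc using hA
  have hB : ∀ c : S, r ∣ n → ∃ g : G, g ^ r = sc c := fun c hd => by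
    have hm : ((X ^ r - C ((c : Kˣ) : K)) ^ (n / r)).Monic := (monic_X_pow_sub_C _ hr.out.ne_zero).pow _
    obtain ⟨g, hg, hgc⟩ := hexist _ hm
      (by rw [(monic_X_pow_sub_C _ hr.out.ne_zero).natDegree_pow, natDegree_X_pow_sub_C,
        Nat.div_mul_cancel hd])
      (by
        rw [coeff_zero_eq_eval_zero, eval_pow, eval_sub, eval_pow, eval_X, eval_C,
          zero_pow hr.out.ne_zero, zero_sub]
        exact pow_ne_zero _ (neg_ne_zero.2 (c : Kˣ).ne_zero))
      (Or.inr ⟨c, n / r, rfl⟩)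
    refine ⟨g, hι (Units.ext ?_)⟩
    rw [map_pow, Units.val_pow_eq_pow_val, hsc,
      pow_eq_scalar_of_charpoly_dvd hg (c := (c : Kˣ)) (k := n / r) (hgc ▸ dvd_rfl)]
  -- the classes
  let X' := MultOrbits r n ⊕ ({_h : Unit // r ∣ n} × {x : S ⧸ R // x ≠ 1})
  let rep : X' → G := Sum.elim (fun o => gA o.out) fun x => (hB x.2.1.out x.1.2).choose
  have hrepB : ∀ (x : {_h : Unit // r ∣ n} × {x : S ⧸ R // x ≠ 1}), rep (.inr x) ^ r = sc x.2.1.out :=
    fun x => (hB x.2.1.out x.1.2).choose_spec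
  have houtR : ∀ x : {x : S ⧸ R // x ≠ 1}, x.1.out ∉ R := fun x h =>
    x.2 (by rw [← QuotientGroup.out_eq' x.1]; exact (QuotientGroup.eq_one_iff _).2 h)
  have hAncent : ∀ a : MultTup r n, gA a ∉ Subgroup.center G := fun a hc => by
    obtain ⟨x, hx⟩ := (hcenter _).1 hc
    have h1 : x ^ r = 1 := hscinj (by rw [map_pow, hx, hgA, map_one])
    obtain ⟨i, hi, hi'⟩ := hζ.eq_pow_of_pow_eq_one (ξ := ((x : Kˣ) : K))
      (by rw [← Units.val_pow_eq_pow_val, ← SubmonoidClass.coe_pow, h1]; rfl)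
    have := hgAc a
    rw [← hx, hsc, ← hi', Matrix.scalar_apply, Matrix.charpoly_diagonal, Finset.prod_const, Finset.card_univ,
      Fintype.card_fin, show i = ((i : ZMod r)).val by rw [ZMod.val_natCast, Nat.mod_eq_of_lt hi],
      ← tupPoly_single] at this
    have := congrFun (tupPoly_injective hζ this) (i : ZMod r)
    rw [Pi.single_eq_same] at this
    exact absurd (a.2.1 (i : ZMod r)) (by omega)
  have hrepord : ∀ x : X', orderOf (QuotientGroup.mk (rep x) : G ⧸ Subgroup.center G) = r := by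
    rintro (o | x) <;> rw [hord]
    · exact ⟨by show gA o.out ^ r ∈ _; rw [hgA]; exact one_mem _, hAncent _⟩
    · refine ⟨by rw [hrepB]; exact (hcenter _).2 ⟨_, rfl⟩, fun hc => houtR x.2 ?_⟩
      obtain ⟨y, hy⟩ := (hcenter _).1 hc
      exact ⟨y, hscinj (by rw [powMonoidHom_apply, map_pow, hy, hrepB])⟩
  let f : X' → {C : ConjClasses (G ⧸ Subgroup.center G) //
      ∃ g : G ⧸ Subgroup.center G, ConjClasses.mk g = C ∧ orderOf g = r} :=
    fun x => ⟨_, _, rfl, hrepord x⟩
  have hconjpow : ∀ {g h : G} {x : S}, IsConj g (sc x * h) → ∀ {c d : S}, g ^ r = sc c → h ^ r = sc d →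
      c = x ^ r * d := by
    intro g h x hc c d hg hh
    obtain ⟨P, hP⟩ := isConj_iff.1 hc
    have := congrArg (· ^ r) hP
    simp only [conj_pow, hg, (hsccomm x h).mul_pow, hh] at this
    rw [← (hsccomm c P).eq, mul_inv_cancel_right, ← map_pow, ← map_mul] at this
    exact hscinj this
  have hrot : ∀ (a b : MultTup r n) (x : S), IsConj (gA a) (sc x * gA b) →
      ∃ k : Multiplicative (ZMod r), k • b = a := by
    intro a b x hc
    have h1 := hconjpow hc (c := 1) (d := 1) (by rw [hgA, map_one]) (by rw [hgA, map_one])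
    rw [mul_one] at h1
    obtain ⟨i, hi, hi'⟩ := hζ.eq_pow_of_pow_eq_one (ξ := ((x : Kˣ) : K))
      (by rw [← Units.val_pow_eq_pow_val, ← SubmonoidClass.coe_pow, ← h1]; rfl)
    refine ⟨Multiplicative.ofAdd (i : ZMod r), Subtype.ext (tupPoly_injective hζ ?_)⟩
    obtain ⟨P, hP⟩ := isConj_iff.1 hc
    have e := congrArg (fun g => (ι g).1.charpoly) hP
    simp only [map_mul, map_inv, Units.val_mul, Matrix.coe_units_inv, Matrix.charpoly_units_conj, hgAc,
      hsc] at e
    rw [e, ← hi', show i = ((i : ZMod r)).val by rw [ZMod.val_natCast, Nat.mod_eq_of_lt hi],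
      charpoly_root_mul hζ _ (hgAc b)]
    congr 1
    funext j
    rw [multTup_smul_apply, ZMod.natCast_zmod_val]
    rfl
  have hcard : Nat.card X' = Nat.card (MultOrbits r n) + (r - 1) * (if r ∣ n then 1 else 0) := by
    haveI := finite_multTup (r := r) (n := n)
    rw [Nat.card_sum, Nat.card_prod, hQ, mul_comm (r - 1)]
    congr 2
    split_ifs with hd
    · haveI : Unique {_h : Unit // r ∣ n} := ⟨⟨⟨(), hd⟩⟩, fun x => Subtype.ext rfl⟩
      exact Nat.card_unique
    · haveI : IsEmpty {_h : Unit // r ∣ n} := ⟨fun x => hd x.2⟩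
      exact Nat.card_of_isEmpty
  rw [← card_multOrbits hn, ← hcard]
  refine (Nat.card_eq_of_bijective f ⟨fun x y hxy => ?_, fun C => ?_⟩).symm
  · obtain ⟨z, hz⟩ := (hcl _ _).1 (congrArg Subtype.val hxy)
    rcases x with o | x <;> rcases y with o' | y
    · obtain ⟨k, hk⟩ := hrot o.out o'.out z hz
      rw [← o.out_eq, ← o'.out_eq]
      exact congrArg Sum.inl (Quotient.sound ⟨k, hk⟩)
    · refine absurd ?_ (houtR y.2)
      exact ⟨z⁻¹, by rw [powMonoidHom_apply, inv_pow, inv_eq_iff_mul_eq_one]; exact (hconjpow hz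
        (c := 1) (d := y.2.1.out) (by show gA _ ^ r = _; rw [hgA, map_one]) (hrepB y)).symm⟩
    · refine absurd ?_ (houtR x.2)
      exact ⟨z, by rw [powMonoidHom_apply, hconjpow hz (c := x.2.1.out) (d := 1) (hrepB x)
        (by show gA _ ^ r = _; rw [hgA, map_one]), mul_one]⟩
    · have h := hconjpow hz (hrepB x) (hrepB y)
      have h2 : x.2.1 = y.2.1 := by
        rw [← QuotientGroup.out_eq' x.2.1, ← QuotientGroup.out_eq' y.2.1, h, QuotientGroup.mk_mul,
          (QuotientGroup.eq_one_iff _).2 (show z ^ r ∈ R from ⟨z, rfl⟩), one_mul]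
      exact congrArg Sum.inr (Prod.ext (Subtype.ext rfl) (Subtype.ext h2))
  · obtain ⟨C, gq, rfl, hgq⟩ := C
    obtain ⟨g, rfl⟩ := QuotientGroup.mk_surjective gq
    obtain ⟨hgr, hgn⟩ := (hord g).1 hgq
    obtain ⟨c, hc⟩ := hlift g hgr
    have hιg : (ι g).1 ^ r = scalar (Fin n) ((c : Kˣ) : K) := by
      rw [← Units.val_pow_eq_pow_val, ← map_pow, hc, hsc]
    by_cases hcR : c ∈ R
    · obtain ⟨y, hy⟩ := hcR
      set h := sc y⁻¹ * g with hh
      have hhr : h ^ r = 1 := by
        rw [hh, (hsccomm _ _).mul_pow, hc, ← map_pow, ← map_mul, ← hy, powMonoidHom_apply, inv_pow,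
          inv_mul_cancel, map_one]
      obtain ⟨a, ha⟩ := exists_eq_tupPoly hζ (ι h).1.charpoly_monic (k := Fintype.card (Fin n))
        (CharpolySS.charpoly_dvd_pow _ _ (CharpolySS.aeval_X_pow_sub_one _ (by
          rw [← Units.val_pow_eq_pow_val, ← map_pow, hhr, map_one, Units.val_one])))
      have hsum : ∑ j, a j = n := by
        rw [← natDegree_tupPoly ζ a, ← ha, Matrix.charpoly_natDegree_eq_dim, Fintype.card_fin]
      have hhn : h ∉ Subgroup.center G := fun h' => hgn (by
        have := Subgroup.mul_mem _ ((hcenter _).2 ⟨y, rfl⟩) h'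
        rwa [hh, ← mul_assoc, ← map_mul, mul_inv_cancel, map_one, one_mul] at this)
      have hlt : ∀ j, a j < n := fun j => by
        by_contra hge
        apply hhn
        rw [← Finset.add_sum_erase _ _ (Finset.mem_univ j)] at hsum
        have hsingle : a = Pi.single j n := funext fun i => by
          rcases eq_or_ne i j with rfl | hij
          · rw [Pi.single_eq_same]; omega
          · rw [Pi.single_eq_of_ne hij]
            have h0 : ∑ i ∈ Finset.univ.erase j, a i = 0 := by omega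
            exact (Finset.sum_eq_zero_iff.1 h0) i (Finset.mem_erase.2 ⟨hij, Finset.mem_univ _⟩)
        have hcj : IsConj (sc (ζS ^ j.val)) h := by
          refine hconj _ _ (hss _ ((ζS ^ j.val) ^ r) (map_pow sc _ _).symm)
            (hss _ 1 (by rw [hhr, map_one])) ?_
          rw [hsc, ha, hsingle, tupPoly_single, Matrix.scalar_apply, Matrix.charpoly_diagonal,
            Finset.prod_const, Finset.card_univ, Fintype.card_fin]
          simp [hζdef]
        obtain ⟨P, hP⟩ := isConj_iff.1 hcj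
        rw [← (hsccomm _ P).eq, mul_inv_cancel_right] at hP
        exact (hcenter _).2 ⟨_, hP⟩
      let aT : MultTup r n := ⟨a, hlt, hsum⟩
      set o : MultOrbits r n := Quotient.mk _ aT
      obtain ⟨k, hk⟩ : ∃ k : Multiplicative (ZMod r), k • aT = o.out :=
        MulAction.mem_orbit_iff.1 (Quotient.exact o.out_eq)
      refine ⟨.inl o, Subtype.ext ((hcl _ _).2 ⟨ζS ^ k.toAdd.val * y⁻¹, ?_⟩)⟩
      show IsConj (gA o.out) _
      rw [map_mul, mul_assoc, ← hh]
      refine hconj _ _ (hss _ 1 (by rw [hgA, map_one]))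
        (hss _ ((ζS ^ k.toAdd.val) ^ r) (by rw [(hsccomm _ _).mul_pow, hhr, mul_one]; simp only [map_pow])) ?_
      rw [hgAc, map_mul, Units.val_mul, hsc, SubmonoidClass.coe_pow, Units.val_pow_eq_pow_val, ← hζdef,
        charpoly_root_mul hζ _ ha, ← hk]
      rfl
    · obtain ⟨hd, hχ⟩ := charpoly_of_pow_eq (hirr c hcR) hιg
      rw [Fintype.card_fin] at hd hχ
      set x : {x : S ⧸ R // x ≠ 1} := ⟨QuotientGroup.mk c, fun h => hcR ((QuotientGroup.eq_one_iff c).1 h)⟩
      obtain ⟨⟨_, y, rfl⟩, hy⟩ := QuotientGroup.mk_out_eq_mul R c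
      refine ⟨.inr (⟨(), hd⟩, x), Subtype.ext ((hcl _ _).2 ⟨y, ?_⟩)⟩
      have hp1 := hrepB (⟨(), hd⟩, x)
      have hp2 : (sc y * g) ^ r = sc x.1.out := by
        show _ = sc (QuotientGroup.mk c : S ⧸ R).out
        rw [hy, (hsccomm _ _).mul_pow, hc, ← map_pow, ← map_mul, mul_comm]
        rfl
      refine hconj _ _ (hss _ _ hp1) (hss _ _ hp2) ?_
      have e1 := charpoly_of_pow_eq (hirr _ (houtR x))
        (show (ι (rep (.inr (⟨(), hd⟩, x)))).1 ^ r = scalar (Fin n) ((x.1.out : Kˣ) : K) by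
          rw [← Units.val_pow_eq_pow_val, ← map_pow, hp1, hsc])
      have e2 := charpoly_of_pow_eq (hirr _ (houtR x))
        (show (ι (sc y * g)).1 ^ r = scalar (Fin n) ((x.1.out : Kˣ) : K) by
          rw [← Units.val_pow_eq_pow_val, ← map_pow, hp2, hsc])
      rw [e1.2, e2.2]

end classes

end CfsgLib.RootClasses
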